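import Cfsg.Agent.Lib.Blocks.SmallDegree

/-!
# Characters of degree `(p - 1) / 2` in groups of odd order
-/

set_option autoImplicit false
set_option linter.unusedSectionVars false
set_option linter.unusedVariables false
set_option linter.style.haveILetI false

namespace Cfsg.Agent.Lib.OddLinear

open Cfsg Cfsg.Agent.Lib.Characters Cfsg.Agent.Lib.Blocks
open Cfsg.Agent.Lib.Blocks.PrimeSplit
open scoped ComplexConjugate

universe u

variable {G : Type u} [Group G] [Fintype G] {M : Ideal AlgInt} [hMp : M.IsPrime] {p : ℕ}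
  [hp : Fact p.Prime] {P O : Subgroup G} {u : G} [Fintype O]

theorem degree_count_odd {E p a b : ℕ} (hE : 2 ≤ E) (hp : 2 * E + 1 ≤ p)
    (hab : a + b + 1 = E) (ha : a * (2 * p + 1) + 1 ≤ E * E) (hb : b * (2 * p - 1) ≤ E * E) : False := by
  obtain ⟨q, rfl⟩ : ∃ q, p = 2 * E + 1 + q := ⟨p - (2 * E + 1), by omega⟩
  rw [show 2 * (2 * E + 1 + q) - 1 = 4 * E + 1 + 2 * q by omega] at hb
  subst hab
  nlinarith [Nat.zero_le (a * q), Nat.zero_le (b * q)]

theorem no_char_odd [Fintype (Subgroup.centralizer (P : Set G))] (hM : IsPModular p M)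
    (S : PrimeSplit p P O u) {E : ℕ}
    (hE : (Subgroup.centralizer (P : Set G)).relIndex (Subgroup.normalizer (P : Set G)) = E)
    (hodd : Odd (Nat.card G)) (hE2 : 2 ≤ E) (hEp : 2 * E + 1 ≤ p)
    (hgen : ∀ l : G →* ℂˣ, l u = 1 → l = 1)
    (χ : IrrCharacter G) (hd : charDegree (χ : G → ℂ) = E) (τ : ℂ ≃+* ℂ)
    (hτ : ∀ z : ℂ, z ^ ordC p G = 1 → τ z = z) (hne : autIrr τ χ ≠ χ) : False := by
  classical
  obtain ⟨SX, δ, hcard, htriv, hX, -⟩ := S.principal_sections hM hE (by omega)
  haveI := Fintype.ofFinite (IrrCharacter G)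
  let A : G → ℂ := fun g => (χ : G → ℂ) g * conj ((χ : G → ℂ) g)
  let B : G → ℂ := fun g => (χ : G → ℂ) g * conj ((autIrr τ χ : G → ℂ) g)
  have hA : IsCharacter G A := IsCharacter.mul (irr_isCharacter χ) (IsCharacter.conjugate (irr_isCharacter χ))
  have hB : IsCharacter G B :=
    IsCharacter.mul (irr_isCharacter χ) (IsCharacter.conjugate (irr_isCharacter (autIrr τ χ)))
  obtain ⟨a, ha, ha'⟩ := IsCharacter.exists_nat_decomp hA
  obtain ⟨b, hb, hb'⟩ := IsCharacter.exists_nat_decomp hB
  have hD : ∀ g : G, ¬ p ∣ orderOf g → A g = B g := by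
    intro g hg
    show _ * _ = _ * _
    rw [autIrr_apply, complexAut_apply_char (irr_isCharacter χ) hτ (orderOf_dvd_ordC hg)]
  have hab : ∀ ψ ∈ SX, ((a ψ : ℤ) - b ψ) = δ ψ := by
    intro ψ hψ
    have h1 : classInner (A - B) (ψ : G → ℂ) = (δ ψ : ℂ) * classInner (A - B) (fun _ => 1) := by
      simp only [classInner, Finset.mul_sum]
      refine Finset.sum_congr rfl fun g _ => ?_
      by_cases hg : p ∣ orderOf g
      · rw [(hX ψ hψ).2.1 g hg, map_intCast, map_one]; ring
      · rw [Pi.sub_apply, hD g hg, sub_self]; ring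
    have h2 : classInner (A - B) (fun _ : G => (1 : ℂ)) = 1 := by
      rw [classInner_sub_left, show classInner A (fun _ => (1 : ℂ)) = classInner (χ : G → ℂ) (χ : G → ℂ) by
          simp [classInner, A],
        show classInner B (fun _ => (1 : ℂ)) = classInner (χ : G → ℂ) (autIrr τ χ : G → ℂ) by
          simp [classInner, B],
        IsIrrCharacter.classInner_self χ.2,
        IsIrrCharacter.classInner_ne χ.2 (autIrr τ χ).2 (fun h => hne (Subtype.ext h.symm)), sub_zero]
    rw [h2, mul_one, classInner_sub_left, ha' ψ, hb' ψ] at h1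
    have h3 : (((a ψ : ℤ) - b ψ : ℤ) : ℂ) = ((δ ψ : ℤ) : ℂ) := by push_cast; exact h1
    exact_mod_cast h3
  have hdeg : ∀ (F : G → ℂ) (f : IrrCharacter G → ℕ), F = ∑ φ, (f φ : ℂ) • (φ : G → ℂ) →
      F 1 = ((E * E : ℕ) : ℂ) → ∀ T : Finset (IrrCharacter G), (∀ ψ ∈ T, 1 ≤ f ψ) →
      ∑ ψ ∈ T, charDegree (ψ : G → ℂ) ≤ E * E := by
    intro F f hF hF1 T hT
    have h : E * E = ∑ φ, f φ * charDegree (φ : G → ℂ) := by
      refine Nat.cast_injective (R := ℂ) ?_
      rw [← hF1, hF, Finset.sum_apply, Nat.cast_sum]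
      exact Finset.sum_congr rfl fun φ _ => by rw [Pi.smul_apply, smul_eq_mul, Nat.cast_mul, charDegree_eq]
    rw [h]
    exact (Finset.sum_le_sum fun ψ hψ => Nat.le_mul_of_pos_left _ (hT ψ hψ)).trans
      (Finset.sum_le_sum_of_subset (Finset.subset_univ T))
  have hd1 : (χ : G → ℂ) 1 = (E : ℂ) := by rw [← charDegree_eq, hd]
  have hA1 : A 1 = ((E * E : ℕ) : ℂ) := by
    show _ * conj _ = _
    rw [hd1, map_natCast, Nat.cast_mul]
  have hB1 : B 1 = ((E * E : ℕ) : ℂ) := by
    show _ * conj (τ _) = _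
    rw [hd1, map_natCast, map_natCast, Nat.cast_mul]
  set Tp := (SX.erase (trivIrr G)).filter fun ψ => δ ψ = 1 with hTp
  set Tm := (SX.erase (trivIrr G)).filter fun ψ => ¬ δ ψ = 1 with hTm
  have hcount : Tp.card + Tm.card + 1 = E := by
    rw [hTp, hTm, Finset.card_filter_add_card_filter_not, Finset.card_erase_of_mem htriv, hcard]
    omega
  have hu : p ∣ orderOf u := S.orderOf_u.symm ▸ dvd_rfl
  have hbig : ∀ ψ ∈ Tp, 2 * p + 1 ≤ charDegree (ψ : G → ℂ) := by
    intro ψ hψ
    obtain ⟨hψ', hδ⟩ := Finset.mem_filter.1 hψ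
    obtain ⟨hne1, hψX⟩ := Finset.mem_erase.1 hψ'
    obtain ⟨-, hsing, hmod, -⟩ := hX ψ hψX
    rw [hδ] at hmod
    have hne' : charDegree (ψ : G → ℂ) ≠ 1 := by
      intro h1
      obtain ⟨l, hl⟩ := IsCharacter.exists_hom_of_apply_one (irr_isCharacter ψ)
        (by rw [← charDegree_eq, h1, Nat.cast_one])
      have hlu : l u = 1 := by
        refine Units.ext ?_
        have h := hsing u hu
        rw [hl, hδ, Int.cast_one] at h
        exact h
      refine hne1 (Subtype.ext (funext fun g => ?_))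
      rw [hl, hgen l hlu, trivIrr_apply]
      simp
    obtain ⟨k, hk⟩ := (Int.modEq_iff_dvd.1 hmod.symm)
    have := charDegree_pos ψ
    have hk0 : 0 < k := by
      by_contra hle
      push Not at hle
      have : (p : ℤ) * k ≤ 0 := Int.mul_nonpos_of_nonneg_of_nonpos (by positivity) hle
      omega
    have hk1 : k ≠ 1 := by
      rintro rfl
      obtain ⟨c, hc⟩ := hodd.of_dvd_nat (charDegree_dvd_card ψ)
      obtain ⟨q, hq⟩ := hp.out.odd_of_ne_two (by omega)
      omega
    have : (p : ℤ) * 2 ≤ p * k := Int.mul_le_mul_of_nonneg_left (by omega) (by positivity)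
    omega
  have hbig' : ∀ ψ ∈ Tm, 2 * p - 1 ≤ charDegree (ψ : G → ℂ) := by
    intro ψ hψ
    obtain ⟨hψ', hδ⟩ := Finset.mem_filter.1 hψ
    obtain ⟨h1, -, hmod, -⟩ := hX ψ (Finset.mem_erase.1 hψ').2
    rw [h1.resolve_left hδ] at hmod
    obtain ⟨k, hk⟩ := (Int.modEq_iff_dvd.1 hmod.symm)
    have := charDegree_pos ψ
    have hk0 : 0 < k := by
      by_contra hle
      push Not at hle
      have : (p : ℤ) * k ≤ 0 := Int.mul_nonpos_of_nonneg_of_nonpos (by positivity) hle
      omega
    have hk1 : k ≠ 1 := by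
      rintro rfl
      obtain ⟨c, hc⟩ := hodd.of_dvd_nat (charDegree_dvd_card ψ)
      obtain ⟨q, hq⟩ := hp.out.odd_of_ne_two (by omega)
      omega
    have : (p : ℤ) * 2 ≤ p * k := Int.mul_le_mul_of_nonneg_left (by omega) (by positivity)
    omega
  have hδtriv : δ (trivIrr G) = 1 := by
    have h := (hX _ htriv).2.1 u hu
    rw [trivIrr_apply] at h
    exact_mod_cast h.symm
  have h1 := hdeg A a ha hA1 (insert (trivIrr G) Tp) (by
    intro ψ hψ
    have hψX : ψ ∈ SX ∧ δ ψ = 1 := by
      rcases Finset.mem_insert.1 hψ with rfl | h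
      · exact ⟨htriv, hδtriv⟩
      · exact ⟨(Finset.mem_erase.1 (Finset.mem_filter.1 h).1).2, (Finset.mem_filter.1 h).2⟩
    have := hab ψ hψX.1
    omega)
  have h2 := hdeg B b hb hB1 Tm (by
    intro ψ hψ
    obtain ⟨hψ', hδ⟩ := Finset.mem_filter.1 hψ
    have hψX := (Finset.mem_erase.1 hψ').2
    have h3 := (hX ψ hψX).1.resolve_left hδ
    have := hab ψ hψX
    omega)
  rw [Finset.sum_insert (by simp [hTp]), show charDegree ((trivIrr G : IrrCharacter G) : G → ℂ) = 1 from
    Nat.cast_injective (R := ℂ) (by rw [charDegree_eq, trivIrr_apply, Nat.cast_one])] at h1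
  have h1' := Finset.card_nsmul_le_sum Tp _ _ hbig
  have h2' := Finset.card_nsmul_le_sum Tm _ _ hbig'
  rw [smul_eq_mul] at h1' h2'
  exact degree_count_odd hE2 hEp hcount (by omega) (h2'.trans h2)

/-- The sections of a character of small degree. -/
theorem half_sections [Fintype (Subgroup.centralizer (P : Set G))] (hM : IsPModular p M)
    (S : PrimeSplit p P O u) (hp5 : 5 ≤ p) (χ : IrrCharacter G) (hd : 2 * charDegree (χ : G → ℂ) + 1 ≤ p)
    (hu : (χ : G → ℂ) u ≠ (χ : G → ℂ) 1) :
    ∃ (θ : IrrCharacter O) (t : G) (r n e : ℕ) (D : S.StabData θ t r n e) (k : ZMod p),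
      k ≠ 0 ∧ n * e ≤ charDegree (χ : G → ℂ) ∧
      ∀ (i : ZMod p) (y : O), (χ : G → ℂ) (upow u i * (y : G)) = ∑ a ∈ Finset.range n,
        (∑ x ∈ rootsSet p e, ZMod.stdAddChar ((r : ZMod p) ^ a * i * k * x)) * (D.conjTheta a : O → ℂ) y := by
  classical
  haveI := Fintype.ofFinite (IrrCharacter O)
  haveI : NeZero p := ⟨hp.out.ne_zero⟩
  set d := charDegree (χ : G → ℂ) with hdd
  obtain ⟨θ, j₀, hj₀, hmj⟩ : ∃ (θ : IrrCharacter O) (j : ZMod p), j ≠ 0 ∧ S.secMult θ χ j ≠ 0 := by
    by_contra hcon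
    push Not at hcon
    apply hu
    have hu1 : upow u (1 : ZMod p) = u := by
      rw [show (1 : ZMod p) = ((1 : ℕ) : ZMod p) by simp, upow_natCast S.pow_u, pow_one]
    have h := S.section_eq_sum χ (1 : ZMod p) 1
    rw [hu1, OneMemClass.coe_one, mul_one] at h
    rw [h, S.apply_one_eq_sum]
    refine Finset.sum_congr rfl fun η _ => ?_
    congr 1
    rw [S.secCoeff_eq_sum_secMult, S.secCoeff_eq_sum_secMult]
    refine Finset.sum_congr rfl fun j _ => ?_
    by_cases hj : j = 0
    · subst hj; simp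
    · simp [hcon η j hj]
  have hsum := S.sum_secMult_le θ χ
  rw [← hdd] at hsum
  have herase : ∑ j, S.secMult θ χ j =
      S.secMult θ χ 0 + ∑ j ∈ (Finset.univ : Finset (ZMod p)).erase 0, S.secMult θ χ j :=
    (Finset.add_sum_erase _ _ (Finset.mem_univ 0)).symm
  have hce : ((Finset.univ : Finset (ZMod p)).erase 0).card = p - 1 := by
    rw [Finset.card_erase_of_mem (Finset.mem_univ _), Finset.card_univ, ZMod.card]
  have hconst : ∀ δ : ℤ, ¬ ∀ i : ZMod p, i ≠ 0 → secCoeff u (θ : O → ℂ) χ i = (δ : ℂ) := by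
    intro δ hf
    have h := Finset.card_nsmul_le_sum ((Finset.univ : Finset (ZMod p)).erase 0)
      (fun j => S.secMult θ χ j) 1 (fun j hj => by
        have h1 := S.secMult_of_const θ χ hf (Finset.mem_erase.1 hj).1
        have h2 := S.secMult_of_const θ χ hf hj₀
        omega)
    rw [hce, smul_eq_mul, mul_one] at h
    omega
  obtain ⟨B, b, ψ₀, hB, hBP, hb, hψ₀, hres⟩ := S.exists_block_of_theta hM θ
  obtain ⟨hout, hin⟩ := S.defect_one_inputs hM hB hBP hb hψ₀
  rw [hres] at hout hin
  have hχB : χ ∈ B := by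
    by_contra hn
    exact hconst 0 fun i hi => by rw [hout χ hn i hi, Int.cast_zero]
  obtain ⟨t, r, n, e, D⟩ := S.exists_stabData θ
  obtain ⟨SX, SY, dX, ε, Y, hBs, hdisj, hSX, hSY, hY, hε, hYY, hX, hYc, -, -, -⟩ :=
    D.defect_one hM hB hout hin
  rcases (hBs χ).1 hχB with h | h
  · exact absurd (hX χ h).2.1 (hconst (dX χ))
  obtain ⟨k, rfl⟩ := (hY χ).1 h
  set J := Finset.univ.filter (fun j : ZMod p => (j * (k : ZMod p)⁻¹) ^ e = 1) with hJdef
  have hroot : IsPrimitiveRoot ((r : ZMod p) ^ n) e := D.prim_e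
  have hJsum : ∀ f : ZMod p → ℂ, ∑ j ∈ J, f j = ∑ x ∈ rootsSet p e, f ((k : ZMod p) * x) := by
    intro f
    refine Finset.sum_bij' (fun j _ => (k : ZMod p)⁻¹ * j) (fun x _ => (k : ZMod p) * x) (fun j hj => ?_)
      (fun x hx => ?_) (fun j _ => mul_inv_cancel_left₀ k.2 j) (fun x _ => inv_mul_cancel_left₀ k.2 x)
      (fun j _ => by rw [mul_inv_cancel_left₀ k.2])
    · rw [mem_rootsSet, mul_comm]; exact (Finset.mem_filter.1 hj).2
    · refine Finset.mem_filter.2 ⟨Finset.mem_univ _, ?_⟩
      rw [mul_right_comm, mul_inv_cancel₀ k.2, one_mul]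
      exact mem_rootsSet.1 hx
  have hJ0 : (0 : ZMod p) ∉ J := by
    intro h0
    have h1 := (Finset.mem_filter.1 h0).2
    rw [zero_mul, zero_pow D.e_pos.ne'] at h1
    exact zero_ne_one h1
  have hkJ : (k : ZMod p) ∈ J := Finset.mem_filter.2 ⟨Finset.mem_univ _, by rw [mul_inv_cancel₀ k.2, one_pow]⟩
  have hJc : J.card = e := by
    have h1 := hJsum (fun _ => 1)
    simp only [Finset.sum_const, nsmul_one] at h1
    rw [Nat.cast_inj, card_rootsSet D.e_pos hroot] at h1
    exact h1
  have hm : ∀ j, (S.secMult θ (Y k) j : ℤ) = (S.secMult θ (Y k) 0 : ℤ) + if j ∈ J then ε else 0 :=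
    S.secMult_of_period θ (Y k) hJ0 (hYc k)
  obtain ⟨hε1, hm0, hed⟩ : ε = 1 ∧ S.secMult θ (Y k) 0 = 0 ∧ e ≤ d := by
    rcases hε with h1 | h1
    · refine ⟨h1, ?_, ?_⟩
      · by_contra h0
        have h2 := Finset.card_nsmul_le_sum Finset.univ (fun j => S.secMult θ (Y k) j) 1 (fun j _ => by
          have h4 := hm j
          rw [h1] at h4
          split_ifs at h4 <;> omega)
        rw [Finset.card_univ, ZMod.card, smul_eq_mul, mul_one] at h2
        omega
      · have h2 := Finset.card_nsmul_le_sum J (fun j => S.secMult θ (Y k) j) 1 (fun j hj => by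
          have h4 := hm j
          rw [if_pos hj, h1] at h4
          omega)
        have h3 := Finset.sum_le_sum_of_subset (f := fun j => S.secMult θ (Y k) j) (Finset.subset_univ J)
        rw [hJc, smul_eq_mul, mul_one] at h2
        omega
    · exfalso
      have hk := hm k
      rw [if_pos hkJ, h1] at hk
      by_cases he : e = p - 1
      · have hall : (Finset.univ : Finset (ZMod p)).erase 0 = J := by
          refine (Finset.eq_of_subset_of_card_le (fun j (hj : j ∈ J) => Finset.mem_erase.2 ⟨fun h0 : j = 0 => hJ0 (h0 ▸ hj), Finset.mem_univ _⟩) ?_).symm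
          rw [hce, hJc, he]
        have hj0J : j₀ ∈ J := hall.subset (Finset.mem_erase.2 ⟨hj₀, Finset.mem_univ _⟩)
        have h5 := hm j₀
        rw [if_pos hj0J, h1] at h5
        have h2 := Finset.card_nsmul_le_sum ((Finset.univ : Finset (ZMod p)).erase 0)
          (fun j => S.secMult θ (Y k) j) 1 (fun j hj => by
            have h4 := hm j
            rw [if_pos (hall.subset hj), h1] at h4
            omega)
        rw [hce, smul_eq_mul, mul_one] at h2
        omega
      · have h2e : 2 * e ≤ p - 1 := by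
          obtain ⟨w, hw⟩ := D.e_dvd
          rcases w with _ | _ | w
          · have := hp.out.two_le; omega
          · omega
          · rw [hw]; calc 2 * e = e * 2 := mul_comm _ _
              _ ≤ e * (w + 1 + 1) := Nat.mul_le_mul_left e (by omega)
        have h2 := Finset.card_nsmul_le_sum (Finset.univ \ J) (fun j => S.secMult θ (Y k) j) 1 (fun j hj => by
          have h4 := hm j
          rw [if_neg (Finset.mem_sdiff.1 hj).2] at h4
          omega)
        have h3 := Finset.sum_le_sum_of_subset (f := fun j => S.secMult θ (Y k) j) (Finset.subset_univ (Finset.univ \ J))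
        rw [Finset.card_univ_sdiff, hJc, ZMod.card, smul_eq_mul, mul_one] at h2
        omega
  -- the sections at the conjugates of `θ`
  let c : ZMod p → ℂ := fun i => ∑ x ∈ rootsSet p e, ZMod.stdAddChar (i * (k : ZMod p) * x)
  have hc : ∀ i : ZMod p, secCoeff u (θ : O → ℂ) (Y k) i = c i := by
    intro i
    rw [S.secCoeff_eq_sum_secMult]
    show _ = ∑ x ∈ rootsSet p e, ZMod.stdAddChar (i * (k : ZMod p) * x)
    rw [Finset.sum_congr rfl fun j _ => show (S.secMult θ (Y k) j : ℂ) * ZMod.stdAddChar (i * j) =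
      if j ∈ J then ZMod.stdAddChar (i * j) else 0 by
        have h4 := hm j
        rw [hm0, hε1] at h4
        split_ifs at h4 ⊢ with hj
        · rw [show S.secMult θ (Y k) j = 1 by omega, Nat.cast_one, one_mul]
        · rw [show S.secMult θ (Y k) j = 0 by omega, Nat.cast_zero, zero_mul],
      Finset.sum_ite_mem, Finset.univ_inter, hJsum]
    simp only [mul_assoc]
  have hconjc : ∀ (a : ℕ) (i : ZMod p),
      secCoeff u (D.conjTheta a : O → ℂ) (Y k) i = c ((r : ZMod p) ^ a * i) := by
    intro a i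
    rw [← hc]
    exact S.secCoeff_conj ((Subgroup.normalizer (P : Set G)).pow_mem D.t_mem a) (D.conj_pow a i) _ (Y k)
  have hother : ∀ η : IrrCharacter O, η ∉ (Finset.range n).image D.conjTheta →
      ∀ i : ZMod p, secCoeff u (η : O → ℂ) (Y k) i = 0 := by
    intro η hη i
    have hz : ∀ i : ZMod p, i ≠ 0 → secCoeff u (η : O → ℂ) (Y k) i = 0 := by
      refine fun i hi => hin _ hχB η (fun g hg => ?_) i hi
      by_contra hcon
      push Not at hcon
      obtain ⟨s, hs, hgs⟩ := D.exists_orbit hg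
      exact hη (Finset.mem_image.2 ⟨s, Finset.mem_range.2 hs,
        Subtype.ext (funext fun y => ((hcon y).trans (hgs y)).symm)⟩)
    have hconst' : ∀ j, S.secMult η (Y k) j = S.secMult η (Y k) 0 := by
      intro j
      by_cases hj : j = 0
      · rw [hj]
      · have := S.secMult_of_const η (Y k) (δ := 0) (fun i hi => by rw [hz i hi, Int.cast_zero]) hj
        omega
    have hsum' := S.sum_secMult_le η (Y k)
    rw [Finset.sum_congr rfl fun j _ => hconst' j, Finset.sum_const, Finset.card_univ, ZMod.card, smul_eq_mul,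
      ← hdd] at hsum'
    have h0 : S.secMult η (Y k) 0 = 0 := by
      by_contra h0
      have := Nat.le_mul_of_pos_right p (Nat.pos_of_ne_zero h0)
      omega
    rw [S.secCoeff_eq_sum_secMult]
    exact Finset.sum_eq_zero fun j _ => by rw [hconst' j, h0, Nat.cast_zero, zero_mul]
  refine ⟨θ, t, r, n, e, D, k, k.2, ?_, fun i y => ?_⟩
  · have hroots := card_rootsSet D.e_pos hroot
    have h1 : ((∑ η ∈ (Finset.range n).image D.conjTheta, e * charDegree (η : O → ℂ) : ℕ) : ℂ) = (d : ℂ) := by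
      rw [hdd, charDegree_eq (Y k), S.apply_one_eq_sum, Nat.cast_sum,
        ← Finset.sum_subset (Finset.subset_univ ((Finset.range n).image D.conjTheta))
          (fun η _ hη => by rw [hother η hη, zero_mul])]
      refine Finset.sum_congr rfl fun η hη => ?_
      obtain ⟨a, -, rfl⟩ := Finset.mem_image.1 hη
      rw [hconjc, Nat.cast_mul, charDegree_eq]
      simp [c, hroots]
    rw [Nat.cast_inj] at h1
    rw [← h1]
    have h2 := Finset.card_nsmul_le_sum ((Finset.range n).image D.conjTheta)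
      (fun η => e * charDegree (η : O → ℂ)) e (fun η _ => Nat.le_mul_of_pos_right e (charDegree_pos η))
    rwa [Finset.card_image_of_injOn D.conjTheta_injOn, Finset.card_range, smul_eq_mul] at h2
  · rw [S.section_eq_sum, ← Finset.sum_subset (Finset.subset_univ ((Finset.range n).image D.conjTheta))
      (fun η _ hη => by rw [hother η hη, zero_mul]), Finset.sum_image D.conjTheta_injOn]
    exact Finset.sum_congr rfl fun a _ => by rw [hconjc]

/-- An element of order `p` acts by a scalar in every character of small degree. -/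
theorem comm_eq_of_half [Fintype (Subgroup.centralizer (P : Set G))] (hM : IsPModular p M)
    (S : PrimeSplit p P O u) (hgen : ∀ l : G →* ℂˣ, l u = 1 → l = 1) (χ : IrrCharacter G)
    (hp5 : 5 ≤ p) (hodd : Odd (Nat.card G)) (hd : 2 * charDegree (χ : G → ℂ) + 1 ≤ p) (g : G) :
    (χ : G → ℂ) (u * g * u⁻¹ * g⁻¹) = (χ : G → ℂ) 1 := by
  classical
  haveI : NeZero p := ⟨hp.out.ne_zero⟩
  by_cases hu : (χ : G → ℂ) u = (χ : G → ℂ) 1
  · refine comm_eq_of_scalar (p := p) χ S.pow_u (ζ := 1) (one_pow p) (fun i => ?_) g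
    rw [one_pow, mul_one]
    exact (mem_charKernel (irr_isCharacter χ)).1 (pow_mem ((mem_charKernel (irr_isCharacter χ)).2 hu) i)
  obtain ⟨θ, t, r, n, e, D, k, hk, hned, hval⟩ := half_sections hM S hp5 χ hd hu
  haveI := Fintype.ofFinite (IrrCharacter O)
  haveI := Fintype.ofFinite (IrrCharacter G)
  set E := n * e with hEdef
  have hE : (Subgroup.centralizer (P : Set G)).relIndex (Subgroup.normalizer (P : Set G)) = E := D.relIndex_N
  have hEpos : 0 < E := Nat.mul_pos D.n_pos D.e_pos
  have hθ1 : ∀ a, (D.conjTheta a : O → ℂ) 1 = (θ : O → ℂ) 1 := fun a => by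
    show (θ : O → ℂ) ⟨t ^ a * ((1 : O) : G) * (t ^ a)⁻¹, _⟩ = _
    exact congrArg (θ : O → ℂ) (Subtype.ext (by simp))
  let c : ZMod p → ℂ := fun i => ∑ x ∈ rootsSet p e, ZMod.stdAddChar (i * k * x)
  let T : ZMod p → ℂ := fun z => ∑ x ∈ rootsSet p E, ZMod.stdAddChar (z * x)
  let h : ZMod p → ℂ := fun i => ∑ a ∈ Finset.range n, c ((r : ZMod p) ^ a * i)
  have hval1 : ∀ i, (χ : G → ℂ) (upow u i) = (θ : O → ℂ) 1 * h i := by
    intro i
    have h1 := hval i 1
    rw [OneMemClass.coe_one, mul_one] at h1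
    rw [h1, Finset.mul_sum]
    exact Finset.sum_congr rfl fun a _ => by rw [hθ1, mul_comm]
  by_cases hE1 : E = 1
  · -- the scalar case
    have hn1 : n = 1 := Nat.eq_one_of_mul_eq_one_right hE1
    have he1 : e = 1 := Nat.eq_one_of_mul_eq_one_left hE1
    have hroots : rootsSet p e = {(1 : ZMod p)} := by ext x; simp [mem_rootsSet, he1]
    have hform : ∀ i, (χ : G → ℂ) (upow u i) = (θ : O → ℂ) 1 * ZMod.stdAddChar (i * k) := by
      intro i
      rw [hval1 i]
      simp [h, c, hn1, hroots]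
    refine comm_eq_of_scalar (p := p) χ S.pow_u (ζ := ZMod.stdAddChar k) ?_ (fun i => ?_) g
    · rw [← AddChar.map_nsmul_eq_pow, nsmul_eq_mul, ZMod.natCast_self, zero_mul, AddChar.map_zero_eq_one]
    · have h0 := hform 0
      rw [upow_zero, zero_mul, AddChar.map_zero_eq_one, mul_one] at h0
      rw [← upow_natCast (p := p) S.pow_u i, hform, ← AddChar.map_nsmul_eq_pow, nsmul_eq_mul, ← h0]
  exfalso
  have hE2 : 2 ≤ E := by omega
  have hEp' : 2 * E + 1 ≤ p := by omega
  have hr0 : (r : ZMod p) ≠ 0 := D.prim.ne_zero hEpos.ne'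
  haveI : NeZero E := ⟨hEpos.ne'⟩
  have hEd : E ∣ p - 1 := by
    have h1 : (r : ZMod p) ^ (p - 1) = 1 := ZMod.pow_card_sub_one_eq_one hr0
    exact D.prim.dvd_of_pow_eq_one _ h1
  have hcardE : (rootsSet p E).card = E := card_rootsSet hEpos D.prim
  have hne0 : ∀ {q : ℕ}, 0 < q → ∀ {x : ZMod p}, x ∈ rootsSet p q → x ≠ 0 := by
    intro q hq x hx h0
    rw [mem_rootsSet, h0, zero_pow hq.ne'] at hx
    exact zero_ne_one hx
  have heE : ∀ x ∈ rootsSet p e, x ∈ rootsSet p E := by
    intro x hx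
    rw [mem_rootsSet] at hx ⊢
    rw [hEdef, mul_comm, pow_mul, hx, one_pow]
  -- the full period
  have hTc : ∀ i, ∑ x ∈ rootsSet p E, c (i * x) = (e : ℂ) * T (i * k) := by
    intro i
    simp only [c, T]
    rw [Finset.sum_comm, Finset.sum_congr rfl fun w hw => show
      (∑ x ∈ rootsSet p E, ZMod.stdAddChar (i * x * k * w)) = ∑ x ∈ rootsSet p E, ZMod.stdAddChar (i * k * x) by
        rw [← mul_left_rootsSet_sum (mem_rootsSet.1 (heE w hw)) (hne0 D.e_pos hw)
          (fun x => ZMod.stdAddChar (i * k * x))]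
        exact Finset.sum_congr rfl fun x _ => by congr 1; ring,
      Finset.sum_const, nsmul_eq_mul, card_rootsSet D.e_pos D.prim_e]
  have hcper : ∀ (j : ℕ) (x : ZMod p), c (((r : ZMod p) ^ n) ^ j * x) = c x := by
    intro j x
    simp only [c]
    rw [← mul_left_rootsSet_sum (y := ((r : ZMod p) ^ n) ^ j) (e := e)
      (by rw [← pow_mul, mul_comm, pow_mul, D.prim_e.pow_eq_one, one_pow])
      (pow_ne_zero _ (pow_ne_zero _ hr0)) (fun w => ZMod.stdAddChar (x * k * w))]
    exact Finset.sum_congr rfl fun w _ => by congr 1; ring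
  have hhT : ∀ i, h i = T (i * k) := by
    intro i
    have he0 : (e : ℂ) ≠ 0 := Nat.cast_ne_zero.2 D.e_pos.ne'
    refine mul_left_cancel₀ he0 ?_
    rw [← hTc]
    have himg : rootsSet p E = (Finset.range E).image fun b => (r : ZMod p) ^ b := by
      ext x
      simp only [mem_rootsSet, Finset.mem_image, Finset.mem_range]
      constructor
      · exact fun hx => D.prim.eq_pow_of_pow_eq_one hx
      · rintro ⟨b, -, rfl⟩
        rw [← pow_mul, mul_comm, pow_mul, D.prim.pow_eq_one, one_pow]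
    rw [himg, Finset.sum_image fun a ha b hb hab => D.prim.pow_inj (Finset.mem_range.1 ha) (Finset.mem_range.1 hb) hab]
    have hq : ∀ q : ℕ, ∑ b ∈ Finset.range (n * q), c (i * (r : ZMod p) ^ b) = (q : ℂ) * h i := by
      intro q
      induction q with
      | zero => simp
      | succ q ih =>
        rw [Nat.mul_succ, Finset.sum_range_add, ih, Nat.cast_succ, add_mul, one_mul]
        congr 1
        refine Finset.sum_congr rfl fun a _ => ?_
        rw [show i * (r : ZMod p) ^ (n * q + a) = ((r : ZMod p) ^ n) ^ q * ((r : ZMod p) ^ a * i) by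
          rw [pow_add, pow_mul]; ring, hcper]
    exact (hq e).symm
  have hTinv : ∀ (a : ℕ) z, T ((r : ZMod p) ^ a * z) = T z := by
    intro a z
    simp only [T]
    rw [← mul_left_rootsSet_sum (y := (r : ZMod p) ^ a) (e := E)
      (by rw [← pow_mul, mul_comm, pow_mul, D.prim.pow_eq_one, one_pow]) (pow_ne_zero _ hr0)
      (fun w => ZMod.stdAddChar (z * w))]
    exact Finset.sum_congr rfl fun w _ => by congr 1; ring
  -- the Galois conjugates
  have hτex : ∀ s : ZMod p, ∃ τ : ℂ ≃+* ℂ, (∀ z : ℂ, z ^ ordC p G = 1 → τ z = z) ∧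
      (s ≠ 0 → ∀ j : ZMod p, τ (ZMod.stdAddChar j) = ZMod.stdAddChar (s * j)) := by
    intro s
    by_cases hs : s = 0
    · exact ⟨RingEquiv.refl ℂ, fun z _ => rfl, fun h => absurd hs h⟩
    · obtain ⟨τ, h1, h2⟩ := exists_galois (not_dvd_ordC (p := p) (G := G)) hs
      exact ⟨τ, h1, fun _ => h2⟩
  choose τ hτ hτψ using hτex
  have hτO : ∀ s (η : IrrCharacter O) (y : O), τ s ((η : O → ℂ) y) = (η : O → ℂ) y := fun s η y =>
    complexAut_apply_char (irr_isCharacter η) (hτ s) ((orderOf_dvd_natCard y).trans S.card_O_dvd_ordC)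
  have hτc : ∀ s, s ≠ 0 → ∀ x, τ s (c x) = c (s * x) := by
    intro s hs x
    simp only [c]
    rw [map_sum]
    exact Finset.sum_congr rfl fun w _ => by rw [hτψ s hs]; congr 1; ring
  have hτval : ∀ s, s ≠ 0 → ∀ (i : ZMod p) (y : O), (autIrr (τ s) χ : G → ℂ) (upow u i * (y : G)) =
      ∑ a ∈ Finset.range n, c (s * ((r : ZMod p) ^ a * i)) * (D.conjTheta a : O → ℂ) y := by
    intro s hs i y
    rw [autIrr_apply, hval i y, map_sum]
    refine Finset.sum_congr rfl fun a _ => ?_
    rw [map_mul, hτO, show (∑ x ∈ rootsSet p e, ZMod.stdAddChar ((r : ZMod p) ^ a * i * k * x)) =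
      c ((r : ZMod p) ^ a * i) from rfl, hτc s hs]
  let Ψ : ZMod p → G → ℂ := fun s g => (χ : G → ℂ) g * conj ((autIrr (τ s) χ : G → ℂ) g)
  let F : ZMod p → ZMod p → ℂ := fun s i => (Nat.card O : ℂ)⁻¹ * ∑ y : O, Ψ s (upow u i * (y : G))
  have hF : ∀ s, s ≠ 0 → ∀ i, F s i = ∑ a ∈ Finset.range n,
      c ((r : ZMod p) ^ a * i) * conj (c (s * ((r : ZMod p) ^ a * i))) := by
    intro s hs i
    have hv : ∀ y : O, Ψ s (upow u i * (y : G)) =
        (∑ a ∈ Finset.range n, c ((r : ZMod p) ^ a * i) * (D.conjTheta a : O → ℂ) y) *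
          conj (∑ b ∈ Finset.range n, c (s * ((r : ZMod p) ^ b * i)) * (D.conjTheta b : O → ℂ) y) := by
      intro y
      show (χ : G → ℂ) _ * conj ((autIrr (τ s) χ : G → ℂ) _) = _
      rw [hval i y, hτval s hs i y]
    have hexp : F s i = ∑ a ∈ Finset.range n, ∑ b ∈ Finset.range n,
        c ((r : ZMod p) ^ a * i) * conj (c (s * ((r : ZMod p) ^ b * i))) *
          classInner (D.conjTheta a : O → ℂ) (D.conjTheta b : O → ℂ) := by
      simp only [F, hv, classInner, map_sum, map_mul, Finset.sum_mul, Finset.mul_sum]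
      rw [Finset.sum_comm]
      conv_rhs => rw [Finset.sum_comm]
      refine Finset.sum_congr rfl fun b _ => ?_
      rw [Finset.sum_comm]
      refine Finset.sum_congr rfl fun a _ => ?_
      exact Finset.sum_congr rfl fun y _ => by ring
    rw [hexp]
    refine Finset.sum_congr rfl fun a ha => ?_
    rw [Finset.sum_eq_single a]
    · rw [IsIrrCharacter.classInner_self (D.conjTheta a).2, mul_one]
    · intro b hb hne
      rw [IsIrrCharacter.classInner_ne (D.conjTheta a).2 (D.conjTheta b).2 fun h =>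
        hne (D.conjTheta_injOn ha hb (Subtype.ext h)).symm, mul_zero]
    · intro hn; exact absurd ha hn
  rcases hEp'.lt_or_eq with hEp | hEp
  swap
  · -- the extreme case `p = 2 E + 1`
    obtain ⟨s, hs, hsE⟩ : ∃ s : ZMod p, s ≠ 0 ∧ s ^ E ≠ 1 := by
      by_contra hcon
      push Not at hcon
      have h1 := Finset.card_le_card (show (Finset.univ : Finset (ZMod p)).erase 0 ⊆ rootsSet p E from
        fun x hx => mem_rootsSet.2 (hcon x (Finset.mem_erase.1 hx).1))
      rw [Finset.card_erase_of_mem (Finset.mem_univ _), Finset.card_univ, ZMod.card, hcardE] at h1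
      omega
    refine no_char_odd hM S hE hodd hE2 hEp' hgen χ (by omega) (τ s) (hτ s) fun heq => hsE ?_
    have h2 := period_eq_imp (p := p) (E := E) (mul_ne_zero hs hk) hk fun w => by
      have h1 := hτval s hs w 1
      rw [OneMemClass.coe_one, mul_one, heq, hval1, show (∑ a ∈ Finset.range n,
        c (s * ((r : ZMod p) ^ a * w)) * (D.conjTheta a : O → ℂ) 1) = (θ : O → ℂ) 1 * h (s * w) by
          simp only [h, Finset.mul_sum]
          exact Finset.sum_congr rfl fun a _ => by rw [hθ1, mul_comm]; congr 2; ring, hhT, hhT] at h1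
      have h3 := mul_left_cancel₀ (IsIrrCharacter.apply_one_ne_zero θ.2) h1
      simp only [T] at h3
      simp only [show ∀ x : ZMod p, s * k * w * x = s * w * k * x from fun x => by ring,
        show ∀ x : ZMod p, k * w * x = w * k * x from fun x => by ring]
      exact h3.symm
    rwa [mul_inv_cancel_right₀ hk] at h2
  -- outside the stabilising classes the sections are constant
  obtain ⟨SX, δ, -, -, hX, hrest⟩ := S.principal_sections hM hE (by omega)
  have hconst : ∀ s : ZMod p, s ≠ 0 → s ^ E ≠ 1 → ∃ N : ℤ, ∀ i : ZMod p, i ≠ 0 → F s i = (N : ℂ) := by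
    intro s hs hsE
    have hΨ : IsCharacter G (Ψ s) :=
      IsCharacter.mul (irr_isCharacter χ) (IsCharacter.conjugate (irr_isCharacter (autIrr (τ s) χ)))
    obtain ⟨m, hm, -⟩ := IsCharacter.exists_nat_decomp hΨ
    have hΨu : ∀ i, Ψ s (upow u i) = (θ : O → ℂ) 1 * (θ : O → ℂ) 1 * (T (i * k) * conj (T (s * i * k))) := by
      intro i
      have h1 := hτval s hs i 1
      rw [OneMemClass.coe_one, mul_one] at h1
      show (χ : G → ℂ) (upow u i) * conj ((autIrr (τ s) χ : G → ℂ) (upow u i)) = _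
      rw [hval1, h1, show (∑ a ∈ Finset.range n, c (s * ((r : ZMod p) ^ a * i)) * (D.conjTheta a : O → ℂ) 1) =
        (θ : O → ℂ) 1 * h (s * i) by
          simp only [h, Finset.mul_sum]
          exact Finset.sum_congr rfl fun a _ => by rw [hθ1, mul_comm]; congr 2; ring,
        hhT, hhT, map_mul, show conj ((θ : O → ℂ) 1) = (θ : O → ℂ) 1 by rw [← charDegree_eq θ, map_natCast]]
      ring
    have hzero : ∑ i : ZMod p, Ψ s (upow u i) = 0 := by
      simp only [hΨu, ← Finset.mul_sum]
      rw [mul_eq_zero]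
      right
      simp only [T, map_sum, conj_stdAddChar, Finset.sum_mul, Finset.mul_sum, ← AddChar.map_add_eq_mul]
      rw [Finset.sum_comm]
      refine Finset.sum_eq_zero fun w hw => ?_
      rw [Finset.sum_comm]
      refine Finset.sum_eq_zero fun x hx => ?_
      rw [Finset.sum_congr rfl fun (i : ZMod p) _ => show ZMod.stdAddChar (i * k * x + -(s * i * k * w)) =
        ZMod.stdAddChar (i * (k * (x - s * w))) by congr 1; ring, sum_stdAddChar_mul,
        if_neg (mul_ne_zero hk (sub_ne_zero.2 fun hxw => hsE ?_))]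
      rw [mem_rootsSet] at hx hw
      rw [hxw, mul_pow, hw, mul_one] at hx
      exact hx
    have hφsum : ∀ φ : IrrCharacter G, ∑ i : ZMod p, (φ : G → ℂ) (upow u i) =
        ((p * ∑ η : IrrCharacter O, S.secMult η φ 0 * charDegree (η : O → ℂ) : ℕ) : ℂ) := by
      intro φ
      rw [Finset.mul_sum, Nat.cast_sum, Finset.sum_congr rfl fun i _ => show (φ : G → ℂ) (upow u i) =
        ∑ η : IrrCharacter O, secCoeff u (η : O → ℂ) φ i * (η : O → ℂ) 1 by
          have := S.section_eq_sum φ i 1
          rwa [OneMemClass.coe_one, mul_one] at this, Finset.sum_comm]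
      refine Finset.sum_congr rfl fun η _ => ?_
      rw [← Finset.sum_mul, Nat.cast_mul, Nat.cast_mul, charDegree_eq, ← mul_assoc]
      congr 1
      rw [S.secMult_spec]
      exact Finset.sum_congr rfl fun i _ => by simp
    have hfix : ∀ φ, m φ ≠ 0 → ∀ η : IrrCharacter O, S.secMult η φ 0 = 0 := by
      intro φ hφ η
      rw [hm] at hzero
      simp only [Finset.sum_apply, Pi.smul_apply, smul_eq_mul] at hzero
      rw [Finset.sum_comm, Finset.sum_congr rfl fun φ _ => show (∑ i, (m φ : ℂ) * (φ : G → ℂ) (upow u i)) =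
        ((m φ * (p * ∑ η : IrrCharacter O, S.secMult η φ 0 * charDegree (η : O → ℂ)) : ℕ) : ℂ) by
          rw [← Finset.mul_sum, hφsum, ← Nat.cast_mul], ← Nat.cast_sum, Nat.cast_eq_zero,
        Finset.sum_eq_zero_iff] at hzero
      have h1 := hzero φ (Finset.mem_univ _)
      rw [Nat.mul_eq_zero, Nat.mul_eq_zero, Finset.sum_eq_zero_iff] at h1
      have h2 := ((h1.resolve_left hφ).resolve_left hp.out.ne_zero) η (Finset.mem_univ _)
      exact (Nat.mul_eq_zero.1 h2).resolve_right (charDegree_pos η).ne'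
    refine ⟨∑ φ, (m φ : ℤ) * (if φ ∈ SX then δ φ else 0), fun i hi => ?_⟩
    rw [show F s i = ∑ φ, (m φ : ℂ) * secCoeff u ((trivIrr O : IrrCharacter O) : O → ℂ) φ i by
      simp only [F, secCoeff, trivIrr_apply, mul_one, hm, Finset.sum_apply, Pi.smul_apply, smul_eq_mul]
      rw [Finset.sum_comm, Finset.mul_sum]
      exact Finset.sum_congr rfl fun φ _ => by rw [← Finset.mul_sum]; ring, Int.cast_sum]
    refine Finset.sum_congr rfl fun φ _ => ?_
    rw [Int.cast_mul, Int.cast_natCast]
    by_cases hφX : φ ∈ SX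
    · rw [if_pos hφX, (hX φ hφX).2.2.2 i hi]
    rw [if_neg hφX, Int.cast_zero, mul_zero]
    by_cases hmφ : m φ = 0
    · rw [hmφ, Nat.cast_zero, zero_mul]
    rcases hrest φ hφX with hz | ⟨hη, ε, k', hk', hε, hper⟩
    · rw [hz i hi, mul_zero]
    -- an exceptional character of degree `E`
    exfalso
    have hJ0 : (0 : ZMod p) ∉ (rootsSet p E).image (fun x => k' * x) := by
      intro h0
      obtain ⟨x, hx, hx0⟩ := Finset.mem_image.1 h0
      exact hne0 hEpos hx ((mul_eq_zero.1 hx0).resolve_left hk')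
    have hmu := S.secMult_of_period (trivIrr O) φ hJ0 (ε := ε) (fun i hi => by
      rw [hper i hi, Finset.sum_image fun a _ b _ hab => mul_left_cancel₀ hk' hab]
      simp only [mul_assoc])
    have hk'J : k' ∈ (rootsSet p E).image (fun x => k' * x) :=
      Finset.mem_image.2 ⟨1, mem_rootsSet.2 (one_pow E), mul_one k'⟩
    have hε1 : ε = 1 := by
      have h1 := hmu k'
      rw [if_pos hk'J, hfix φ hmφ] at h1
      rcases hε with h | h
      · exact h
      · omega
    have hdeg : charDegree (φ : G → ℂ) = E := by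
      rw [S.charDegree_eq_sum, Finset.sum_eq_single (trivIrr O)]
      · rw [show charDegree ((trivIrr O : IrrCharacter O) : O → ℂ) = 1 from
          Nat.cast_injective (R := ℂ) (by rw [charDegree_eq, trivIrr_apply, Nat.cast_one]), mul_one]
        rw [Finset.sum_congr rfl fun j _ => show S.secMult (trivIrr O) φ j =
          if j ∈ (rootsSet p E).image (fun x => k' * x) then 1 else 0 by
            have h1 := hmu j
            rw [hfix φ hmφ, hε1] at h1
            split_ifs at h1 ⊢ <;> omega,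
          Finset.sum_ite_mem, Finset.univ_inter, Finset.sum_const, smul_eq_mul, mul_one,
          Finset.card_image_of_injective _ (mul_right_injective₀ hk'), hcardE]
      · intro η _ hne
        rw [Finset.sum_eq_zero fun j _ => ?_, zero_mul]
        by_cases hj : j = 0
        · rw [hj]; exact hfix φ hmφ η
        · have h1 := S.secMult_of_const η φ (δ := 0) (fun i hi => by rw [hη η hne i hi, Int.cast_zero]) hj
          rw [hfix φ hmφ η] at h1
          omega
      · simp
    refine no_char_odd hM S hE hodd hE2 hEp.le hgen φ hdeg (τ s) (hτ s) fun heq => hsE ?_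
    have hper' : ∀ i : ZMod p, i ≠ 0 →
        T (s * (i * k')) = T (i * k') := by
      intro i hi
      have h1 := S.secCoeff_autIrr (τ := τ s) (fun z hz => hτ s z (by
        obtain ⟨w, hw⟩ := S.card_O_dvd_ordC
        rw [hw, pow_mul, hz, one_pow])) (trivIrr O) φ i
      rw [heq, hper i hi, hε1, Int.cast_one, one_mul, map_sum] at h1
      simp only [T]
      refine (Eq.symm ?_)
      rw [Finset.sum_congr rfl fun x _ => show ZMod.stdAddChar (s * (i * k') * x) =
        τ s (ZMod.stdAddChar (i * k' * x)) by rw [hτψ s hs]; congr 1; ring]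
      exact h1
    have h2 := period_eq_imp (p := p) (E := E) (mul_ne_zero hs hk') hk' fun w => by
      by_cases hw : w = 0
      · simp [hw]
      · have h3 := hper' w hw
        simp only [T] at h3
        simp only [show ∀ x : ZMod p, s * k' * w * x = s * (w * k') * x from fun x => by ring,
          show ∀ x : ZMod p, k' * w * x = w * k' * x from fun x => by ring]
        exact h3
    rwa [mul_inv_cancel_right₀ hk'] at h2
  choose N hN using hconst
  set U := (Finset.univ : Finset (ZMod p)).erase 0 with hU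
  have hsubE : rootsSet p E ⊆ U := fun s hs => Finset.mem_erase.2 ⟨hne0 hEpos hs, Finset.mem_univ _⟩
  have hsumU : ∀ x : ZMod p, x ≠ 0 → ∑ s ∈ U, conj (c (s * x)) = -(e : ℂ) := by
    intro x hx
    simp only [c, map_sum, conj_stdAddChar]
    rw [Finset.sum_comm, Finset.sum_congr rfl fun w hw => show
      (∑ s ∈ U, ZMod.stdAddChar (-(s * x * k * w))) = -1 by
        rw [Finset.sum_congr rfl fun (s : ZMod p) _ => show ZMod.stdAddChar (-(s * x * k * w)) =
          ZMod.stdAddChar (s * -(x * k * w)) by congr 1; ring,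
          sum_units_stdAddChar (neg_ne_zero.2 (mul_ne_zero (mul_ne_zero hx hk) (hne0 D.e_pos hw)))],
      Finset.sum_const, card_rootsSet D.e_pos D.prim_e, nsmul_eq_mul, mul_neg, mul_one]
  obtain ⟨K, hK⟩ : ∃ K : ℤ, ∀ i : ZMod p, i ≠ 0 →
      (e : ℂ) * (T (i * k) + T (i * k) * conj (T (i * k))) = (K : ℂ) := by
    refine ⟨-∑ s ∈ (U \ rootsSet p E).attach, N s.1 (Finset.mem_erase.1 (Finset.mem_sdiff.1 s.2).1).1
      (fun h => (Finset.mem_sdiff.1 s.2).2 (mem_rootsSet.2 h)), fun i hi => ?_⟩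
    have hall : ∑ s ∈ U, F s i = -(e : ℂ) * h i := by
      rw [Finset.sum_congr rfl fun s hs => hF s (Finset.mem_erase.1 hs).1 i, Finset.sum_comm]
      simp only [← Finset.mul_sum, h]
      rw [Finset.mul_sum]
      refine Finset.sum_congr rfl fun a _ => ?_
      rw [hsumU _ (mul_ne_zero (pow_ne_zero _ hr0) hi), mul_comm]
    have hinE : ∑ s ∈ rootsSet p E, F s i = (e : ℂ) * (h i * conj (T (i * k))) := by
      rw [Finset.sum_congr rfl fun s hs => hF s (hne0 hEpos hs) i, Finset.sum_comm]
      simp only [h, Finset.sum_mul, Finset.mul_sum]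
      refine Finset.sum_congr rfl fun a _ => ?_
      rw [← Finset.mul_sum, ← map_sum, Finset.sum_congr rfl fun (s : ZMod p) _ =>
        congrArg c (mul_comm s ((r : ZMod p) ^ a * i)), hTc, map_mul, map_natCast,
        show (r : ZMod p) ^ a * i * k = (r : ZMod p) ^ a * (i * k) by ring, hTinv]
      ring
    rw [← Finset.sum_sdiff hsubE, ← Finset.sum_attach (U \ rootsSet p E),
      Finset.sum_congr rfl fun s _ => hN s.1 (Finset.mem_erase.1 (Finset.mem_sdiff.1 s.2).1).1
        (fun h => (Finset.mem_sdiff.1 s.2).2 (mem_rootsSet.2 h)) i hi,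
      hinE, hhT] at hall
    push_cast
    linear_combination hall
  have hquad : ∀ i : ZMod p, i ≠ 0 → (e : ℂ) * (T (i * k) + T (i * k) * T (i * k)) = (K : ℂ) := by
    intro i hi
    have h1 := hK i hi
    have h2 := congrArg (conj : ℂ →+* ℂ) h1
    rw [map_mul, map_add, map_mul, map_natCast, map_intCast, Complex.conj_conj, ← h1] at h2
    have h3 := mul_left_cancel₀ (Nat.cast_ne_zero.2 D.e_pos.ne') h2
    have h4 : conj (T (i * k)) = T (i * k) := by linear_combination h3
    rw [h4] at h1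
    exact h1
  have himgcard : 3 ≤ (U.image fun x => x ^ E).card := by
    have h1 := Finset.card_le_mul_card_image (s := U) (f := fun x => x ^ E) E fun b hb => by
      obtain ⟨x₀, hx₀, rfl⟩ := Finset.mem_image.1 hb
      refine le_trans (Finset.card_le_card_of_injOn (fun x => x * x₀⁻¹) ?_ ?_) hcardE.le
      · intro x hx
        refine Finset.mem_coe.2 (mem_rootsSet.2 ?_)
        rw [mul_pow, (Finset.mem_filter.1 hx).2, ← mul_pow, mul_inv_cancel₀ (Finset.mem_erase.1 hx₀).1, one_pow]
      · intro x _ y _ hxy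
        exact mul_right_cancel₀ (inv_ne_zero (Finset.mem_erase.1 hx₀).1) hxy
    rw [hU, Finset.card_erase_of_mem (Finset.mem_univ _), Finset.card_univ, ZMod.card] at h1
    by_contra hlt
    have : E * (U.image fun x => x ^ E).card ≤ E * 2 := Nat.mul_le_mul_left E (by omega)
    rw [← hU] at h1
    omega
  obtain ⟨b₁, hb₁, b₂, hb₂, b₃, hb₃, h12, h13, h23⟩ := Finset.two_lt_card.1 himgcard
  obtain ⟨i₁, hi₁, rfl⟩ := Finset.mem_image.1 hb₁
  obtain ⟨i₂, hi₂, rfl⟩ := Finset.mem_image.1 hb₂
  obtain ⟨i₃, hi₃, rfl⟩ := Finset.mem_image.1 hb₃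
  have hdist : ∀ i i' : ZMod p, i ≠ 0 → i' ≠ 0 → i ^ E ≠ i' ^ E → T (i * k) ≠ T (i' * k) := by
    intro i i' hi hi' hne heq
    refine hne ?_
    have h2 := period_eq_imp (p := p) (E := E) (mul_ne_zero hi hk) (mul_ne_zero hi' hk) fun w => by
      by_cases hw : w = 0
      · simp [hw]
      · have h3 := congrArg (τ w) heq
        simp only [T, map_sum, hτψ w hw] at h3
        simp only [show ∀ a x : ZMod p, a * k * w * x = w * (a * k * x) from fun a x => by ring]
        exact h3
    rw [mul_inv, show i * k * (i'⁻¹ * k⁻¹) = i * i'⁻¹ * (k * k⁻¹) by ring, mul_inv_cancel₀ hk, mul_one,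
      mul_pow, inv_pow, mul_inv_eq_one₀ (pow_ne_zero _ hi')] at h2
    exact h2
  have hi₁0 := (Finset.mem_erase.1 hi₁).1
  have hi₂0 := (Finset.mem_erase.1 hi₂).1
  have hi₃0 := (Finset.mem_erase.1 hi₃).1
  have key : ∀ i i', i ≠ 0 → i' ≠ 0 → i ^ E ≠ i' ^ E → T (i * k) + T (i' * k) = -1 := by
    intro i i' hi hi' hne
    have h1 := mul_left_cancel₀ (Nat.cast_ne_zero.2 D.e_pos.ne') ((hquad i hi).trans (hquad i' hi').symm)
    have h2 : (T (i * k) - T (i' * k)) * (T (i * k) + T (i' * k) + 1) = 0 := by linear_combination h1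
    have h3 := (mul_eq_zero.1 h2).resolve_left (sub_ne_zero.2 (hdist i i' hi hi' hne))
    linear_combination h3
  exact hdist i₂ i₃ hi₂0 hi₃0 h23 (by linear_combination key i₁ i₂ hi₁0 hi₂0 h12 - key i₁ i₃ hi₁0 hi₃0 h13)

end Cfsg.Agent.Lib.OddLinear
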