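import Cfsg.Agent.Lib.Blocks.MatrixUnits
import Cfsg.Agent.Lib.Blocks.Exists
import Cfsg.Agent.Lib.Blocks.Defect
import Cfsg.Agent.Lib.InvChar.GaloisChar

/-!
# Complex characters lifting a linear group of odd order over the field with two elements
-/

set_option autoImplicit false
set_option linter.unusedSectionVars false
set_option linter.style.haveILetI false

namespace Cfsg.Agent.Lib.OddLinear

open Cfsg Cfsg.Agent.Lib.Characters Cfsg.Agent.Lib.Blocks Matrix

universe u

/-- In characteristic two the trace of a square is the square of the trace. -/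
theorem trace_sq_two {R : Type*} [CommRing R] [CharP R 2] {ι : Type*} [Fintype ι] [DecidableEq ι]
    (A : Matrix ι ι R) : (A * A).trace = A.trace * A.trace := by
  classical
  have h2 : ∀ x : R, x + x = 0 := CharTwo.add_self_eq_zero
  simp only [Matrix.trace, Matrix.diag, Matrix.mul_apply, Finset.sum_mul_sum]
  rw [← sub_eq_zero, ← Finset.sum_sub_distrib]
  simp only [← Finset.sum_sub_distrib]
  rw [← Finset.sum_product']
  refine Finset.sum_involution (fun x _ => (x.2, x.1)) (fun x _ => ?_) (fun x _ hx => ?_)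
    (fun _ _ => Finset.mem_univ _) (fun _ _ => rfl)
  · rw [mul_comm (A x.2 x.1), mul_comm (A x.2 x.2), h2]
  · intro h
    have h1 : x.2 = x.1 := congrArg Prod.fst h
    exact hx (by rw [h1, sub_self])

theorem exists_lift {G : Type u} [Group G] [Fintype G] (hodd : Odd (Nat.card G)) {r : ℕ}
    (ρ₀ : G →* Matrix (Fin r) (Fin r) (ZMod 2)) (hρ₀ : Function.Injective ρ₀) :
    ∃ S : Finset (IrrCharacter G),
      (∀ g : G, (∀ ψ ∈ S, (ψ : G → ℂ) g = (ψ : G → ℂ) 1) → g = 1) ∧
      (∑ ψ ∈ S, charDegree (ψ : G → ℂ)) ≤ r ∧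
      ∀ ψ ∈ S, ∃ ψ' ∈ S, ∀ g : G, (ψ' : G → ℂ) g = (ψ : G → ℂ) (g ^ 2) := by
  classical
  obtain ⟨M, hM⟩ := exists_isPModular Nat.prime_two
  haveI : M.IsPrime := hM.2.1.isPrime
  haveI : Fact (Nat.Prime 2) := ⟨Nat.prime_two⟩
  haveI : CharP (ResField M) 2 := resField_charP hM
  haveI := Fintype.ofFinite (IrrCharacter G)
  have hG2 : ¬ 2 ∣ Nat.card G := hodd.not_two_dvd_nat
  let φ : ZMod 2 →+* ResField M := ZMod.castHom dvd_rfl (ResField M)
  let ρ : G →* Matrix (Fin r) (Fin r) (ResField M) := φ.mapMatrix.toMonoidHom.comp ρ₀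
  have hρ : Function.Injective ρ := by
    intro a b hab
    refine hρ₀ (Matrix.ext fun i j => φ.injective ?_)
    exact congrFun (congrFun hab i) j
  choose d τ hτ using fun θ : IrrCharacter G => exists_model hM θ.2
  have hd : ∀ θ : IrrCharacter G, (d θ : ℂ) = (θ : G → ℂ) 1 := fun θ => by
    rw [← hτ θ, map_one]
    simp [Matrix.trace_one]
  have hdeg : ∀ θ : IrrCharacter G, charDegree (θ : G → ℂ) = d θ := fun θ => by
    rw [charDegree, ← hd, Complex.natCast_re, Nat.floor_natCast]
  have hd0 : ∀ θ, d θ ≠ 0 := fun θ h => IsIrrCharacter.apply_one_ne_zero θ.2 (by rw [← hd, h, Nat.cast_zero])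
  -- `|G|` and the degrees are `1` in the residue field
  have hone : ∀ n : ℕ, n ∣ Nat.card G → (n : ResField M) = 1 := by
    intro n hn
    obtain ⟨k, hk⟩ := hodd.of_dvd_nat hn
    rw [hk, Nat.cast_add, Nat.cast_mul, Nat.cast_ofNat, CharTwo.two_eq_zero, zero_mul, zero_add, Nat.cast_one]
  have hd1 : ∀ θ, (d θ : ResField M) = 1 := fun θ => hone _ (by
    rw [← hdeg]; exact Cfsg.Agent.Lib.Blocks.charDegree_dvd_card θ)
  -- orthogonality in the residue field
  let τk : ∀ θ, G →* Matrix (Fin (d θ)) (Fin (d θ)) (ResField M) := fun θ =>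
    (red M).mapMatrix.toMonoidHom.comp (τ θ)
  let χk : IrrCharacter G → G → ResField M := fun θ y => (τk θ y).trace
  have hχk : ∀ θ y, χk θ y = red M (τ θ y).trace := fun θ y => by
    show ((τ θ y).map (red M)).trace = _
    rw [Matrix.trace, Matrix.trace, map_sum]
    rfl
  have horth : ∀ θ a b c c', ∑ y : G, τk θ y⁻¹ b a * τk θ y c c' =
      if a = c ∧ b = c' then 1 else 0 := by
    intro θ a b c c'
    have h := matrix_orth ((locSubring M).subtype.mapMatrix.toMonoidHom.comp (τ θ)) θ (hτ θ) a b c c'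
    have h' : ((d θ : locSubring M)) * (∑ y : G, τ θ y⁻¹ b a * τ θ y c c') =
        if a = c ∧ b = c' then (Nat.card G : locSubring M) else 0 := by
      apply Subtype.ext
      have hd' : (d θ : ℂ) ≠ 0 := Nat.cast_ne_zero.2 (hd0 θ)
      show ((d θ : locSubring M) : ℂ) * ((∑ y : G, τ θ y⁻¹ b a * τ θ y c c' : locSubring M) : ℂ) = _
      rw [AddSubmonoidClass.coe_finsetSum, SubringClass.coe_natCast,
        show ∑ y : G, ((τ θ y⁻¹ b a * τ θ y c c' : locSubring M) : ℂ) = _ from h]
      split_ifs
      · rw [mul_div_cancel₀ _ hd', SubringClass.coe_natCast]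
      · simp
    have h2 := congrArg (red M) h'
    rw [map_mul, map_natCast, hd1, one_mul, map_sum, apply_ite (red M), map_natCast, map_zero,
      hone _ dvd_rfl] at h2
    rw [← h2]
    exact Finset.sum_congr rfl fun y _ => by rw [map_mul]; rfl
  have horth' : ∀ θ η : IrrCharacter G, η ≠ θ → ∀ c c',
      ∑ y : G, χk η y⁻¹ * τk θ y c c' = 0 := by
    intro θ η hne c c'
    have h := matrix_orth_other ((locSubring M).subtype.mapMatrix.toMonoidHom.comp (τ θ)) θ η (hτ θ) hne c c'
    have h' : (∑ y : G, (τ η y⁻¹).trace * τ θ y c c') = 0 := by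
      apply Subtype.ext
      rw [AddSubmonoidClass.coe_finsetSum]
      rw [ZeroMemClass.coe_zero, ← h]
      refine Finset.sum_congr rfl fun y _ => ?_
      rw [← hτ η y⁻¹]
      simp [Matrix.trace]
    have h2 := congrArg (red M) h'
    rw [map_sum, map_zero] at h2
    rw [← h2]
    exact Finset.sum_congr rfl fun y _ => by rw [map_mul, hχk]; rfl
  have hreg : ∀ y : G, ∑ θ : IrrCharacter G, χk θ y = if y = 1 then 1 else 0 := by
    intro y
    have h' : ∑ θ : IrrCharacter G, (d θ : locSubring M) * (τ θ y).trace =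
        if y = 1 then (Nat.card G : locSubring M) else 0 := by
      apply Subtype.ext
      rw [AddSubmonoidClass.coe_finsetSum]
      have h := sum_degree_mul y
      rw [show ((if y = 1 then (Nat.card G : locSubring M) else 0 : locSubring M) : ℂ) =
        if y = 1 then (Nat.card G : ℂ) else 0 by split_ifs <;> simp, ← h]
      refine Finset.sum_congr rfl fun θ _ => ?_
      rw [← hd, ← hτ θ y]
      simp [Matrix.trace]
    have h2 := congrArg (red M) h'
    rw [map_sum, apply_ite (red M), map_natCast, map_zero, hone _ dvd_rfl] at h2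
    rw [← h2]
    exact Finset.sum_congr rfl fun θ _ => by rw [map_mul, map_natCast, hd1, one_mul, hχk]
  -- the matrix units
  let E : ∀ θ, Fin (d θ) → Fin (d θ) → Matrix (Fin r) (Fin r) (ResField M) := fun θ a b =>
    ∑ y : G, τk θ y⁻¹ b a • ρ y
  let e : IrrCharacter G → Matrix (Fin r) (Fin r) (ResField M) := fun θ => ∑ y : G, χk θ y⁻¹ • ρ y
  have heE : ∀ θ, e θ = ∑ a, E θ a a := fun θ => by
    simp only [e, E, χk, Matrix.trace, Matrix.diag, Finset.sum_smul]
    rw [Finset.sum_comm]
  have hσE : ∀ θ (z : G) b c, ρ z * E θ b c = ∑ a, τk θ z a b • E θ a c := by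
    intro θ z b c
    simp only [E, Finset.mul_sum, mul_smul_comm, Finset.smul_sum, smul_smul]
    rw [Finset.sum_comm]
    refine Fintype.sum_equiv (Equiv.mulLeft z) _ _ fun y => ?_
    rw [Equiv.coe_mulLeft, _root_.mul_inv_rev, ← Finset.sum_smul, map_mul ρ]
    congr 1
    have hz : y⁻¹ * z⁻¹ * z = y⁻¹ := by group
    conv_lhs => rw [← hz, map_mul, Matrix.mul_apply]
    exact Finset.sum_congr rfl fun a _ => mul_comm _ _
  have hEE : ∀ θ a b c c', E θ a b * E θ c c' = if b = c then E θ a c' else 0 := by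
    intro θ a b c c'
    conv_lhs => lhs; simp only [E]
    rw [Finset.sum_mul]
    simp only [smul_mul_assoc, hσE, Finset.smul_sum, smul_smul]
    rw [Finset.sum_comm]
    simp only [← Finset.sum_smul, horth]
    by_cases hbc : b = c
    · rw [if_pos hbc, Finset.sum_eq_single a]
      · rw [if_pos ⟨rfl, hbc⟩, one_smul]
      · intro x _ hx; rw [if_neg fun h => hx h.1.symm, zero_smul]
      · simp
    · rw [if_neg hbc]
      exact Finset.sum_eq_zero fun x _ => by rw [if_neg fun h => hbc h.2, zero_smul]
  have hcross : ∀ θ η : IrrCharacter G, η ≠ θ → ∀ a b, e η * E θ a b = 0 := by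
    intro θ η hne a b
    conv_lhs => lhs; simp only [e]
    rw [Finset.sum_mul]
    simp only [smul_mul_assoc, hσE, Finset.smul_sum, smul_smul]
    rw [Finset.sum_comm]
    exact Finset.sum_eq_zero fun x _ => by rw [← Finset.sum_smul, horth' θ η hne, zero_smul]
  have hsum : ∑ θ, e θ = 1 := by
    simp only [e]
    rw [Finset.sum_comm, Finset.sum_eq_single (1 : G)]
    · rw [← Finset.sum_smul, inv_one, hreg, if_pos rfl, one_smul, map_one]
    · intro y _ hy
      rw [← Finset.sum_smul, hreg, if_neg (inv_ne_one.2 hy), zero_smul]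
    · simp
  -- twisting by the Frobenius
  have hFrob : ∀ θ : IrrCharacter G, ∃ θ' : IrrCharacter G, (∀ g, (θ' : G → ℂ) g = (θ : G → ℂ) (g ^ 2)) ∧
      e θ' = (e θ).map (frobenius (ResField M) 2) := by
    intro θ
    have hcop : Nat.Coprime 2 (Nat.card G) := (Nat.prime_two.coprime_iff_not_dvd).2 hG2
    let θ' : IrrCharacter G := ⟨_, Cfsg.Agent.Lib.InvChar.isIrr_comp_pow θ.2 hcop⟩
    refine ⟨θ', fun g => rfl, ?_⟩
    have hχ : ∀ y, χk θ' y = frobenius (ResField M) 2 (χk θ y) := by
      intro y
      have h1 : (τ θ' y).trace = (τ θ (y ^ 2)).trace := by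
        apply Subtype.ext
        have a1 := hτ θ' y
        have a2 := hτ θ (y ^ 2)
        simp only [Matrix.trace, Matrix.diag, AddSubmonoidClass.coe_finsetSum] at a1 a2 ⊢
        exact a1.trans a2.symm
      rw [hχk θ', h1, ← hχk θ, frobenius_def]
      show (τk θ (y ^ 2)).trace = (τk θ y).trace ^ 2
      rw [pow_two, map_mul, trace_sq_two, ← pow_two]
    have hφ : ∀ x : ZMod 2, frobenius (ResField M) 2 (φ x) = φ x := by
      intro x
      rw [frobenius_def, ← map_pow, ZMod.pow_card]
    ext i j
    simp only [e, Matrix.map_apply, Matrix.sum_apply, Matrix.smul_apply, smul_eq_mul, map_sum, map_mul]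
    refine Finset.sum_congr rfl fun y _ => ?_
    rw [hχ]
    congr 1
    exact (hφ _).symm
  refine ⟨Finset.univ.filter fun θ => e θ ≠ 0, fun g hg => hρ ?_, ?_, fun ψ hψ => ?_⟩
  · rw [map_one]
    calc ρ g = ρ g * ∑ θ, e θ := by rw [hsum, mul_one]
      _ = ∑ θ, e θ := by
        rw [Finset.mul_sum]
        refine Finset.sum_congr rfl fun θ _ => ?_
        by_cases he : e θ = 0
        · rw [he, mul_zero]
        have hker := hg θ (Finset.mem_filter.2 ⟨Finset.mem_univ _, he⟩)
        let π : Representation ℂ G (Fin (d θ) → ℂ) :=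
          (Matrix.toLinAlgEquiv' (R := ℂ) (n := Fin (d θ))).toMonoidHom.comp
            ((locSubring M).subtype.mapMatrix.toMonoidHom.comp (τ θ))
        have hπ : π.character = (θ : G → ℂ) := (char_eq_trace _).trans (funext (hτ θ))
        rw [← hπ, π.char_one, char_eq_finrank_iff] at hker
        have h1 : τ θ g = 1 := by
          have h2 : ((τ θ g).map (locSubring M).subtype) = 1 := by
            apply (Matrix.toLinAlgEquiv' (R := ℂ) (n := Fin (d θ))).injective
            rw [map_one]
            exact hker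
          refine Matrix.ext fun i j => Subtype.ext ?_
          have h3 := congrFun (congrFun h2 i) j
          rw [Matrix.map_apply] at h3
          rw [Subring.coe_subtype] at h3
          rw [h3, Matrix.one_apply, Matrix.one_apply]
          split_ifs <;> simp
        rw [heE, Finset.mul_sum]
        refine Finset.sum_congr rfl fun a _ => ?_
        rw [hσE]
        have h4 : τk θ g = 1 := by
          show (red M).mapMatrix (τ θ g) = 1
          rw [h1, map_one]
        rw [h4, Finset.sum_eq_single a]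
        · rw [Matrix.one_apply_eq, one_smul]
        · intro x _ hx; rw [Matrix.one_apply_ne hx, zero_smul]
        · simp
      _ = 1 := hsum
  · -- dimension count
    set S := Finset.univ.filter fun θ => e θ ≠ 0 with hS
    have hne : ∀ i : Σ θ : S, Fin (d θ.1), ∃ v : Fin r → ResField M, E i.1.1 i.2 i.2 *ᵥ v ≠ 0 := by
      rintro ⟨⟨θ, hθ⟩, a⟩
      by_contra hcon
      push Not at hcon
      have h0 : E θ a a = 0 := by
        refine Matrix.ext fun i j => ?_
        have h1 := congrFun (hcon (Pi.single j 1)) i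
        simpa using h1
      refine (Finset.mem_filter.1 hθ).2 ?_
      rw [heE]
      refine Finset.sum_eq_zero fun b _ => ?_
      have h2 : E θ b b = E θ b a * E θ a a * E θ a b := by
        rw [hEE, if_pos rfl, hEE, if_pos rfl]
      rw [h2, h0, mul_zero, zero_mul]
    choose v hv using hne
    let w : (Σ θ : S, Fin (d θ.1)) → (Fin r → ResField M) := fun i => E i.1.1 i.2 i.2 *ᵥ v i
    have hproj : ∀ i j : (Σ θ : S, Fin (d θ.1)), i ≠ j → E i.1.1 i.2 i.2 * E j.1.1 j.2 j.2 = 0 := by
      rintro ⟨⟨θ, hθ⟩, a⟩ ⟨⟨η, hη⟩, b⟩ hij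
      by_cases hθη : θ = η
      · subst hθη
        show E θ a a * E θ b b = 0
        rw [hEE, if_neg]
        rintro rfl
        exact hij rfl
      · have h1 : E θ a a = E θ a a * e θ := by
          rw [heE, Finset.mul_sum, Finset.sum_eq_single a]
          · rw [hEE, if_pos rfl]
          · intro x _ hx; rw [hEE, if_neg (Ne.symm hx)]
          · simp
        show E θ a a * E η b b = 0
        rw [h1, mul_assoc, hcross η θ hθη, mul_zero]
    have hli : LinearIndependent (ResField M) w := by
      rw [Fintype.linearIndependent_iff]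
      intro c hc i
      have h1 := congrArg (fun x => E i.1.1 i.2 i.2 *ᵥ x) hc
      simp only [Matrix.mulVec_sum, Matrix.mulVec_smul, Matrix.mulVec_zero, w, Matrix.mulVec_mulVec] at h1
      rw [Finset.sum_eq_single i] at h1
      · rw [hEE, if_pos rfl] at h1
        exact (smul_eq_zero.1 h1).resolve_right (hv i)
      · intro j _ hj
        rw [hproj i j (Ne.symm hj), Matrix.zero_mulVec, smul_zero]
      · simp
    have h2 := hli.fintype_card_le_finrank
    rw [Module.finrank_fin_fun, Fintype.card_sigma] at h2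
    simp only [Fintype.card_fin] at h2
    rw [← Finset.sum_coe_sort]
    simpa only [hdeg] using h2
  · obtain ⟨ψ', hψ', he⟩ := hFrob ψ
    refine ⟨ψ', Finset.mem_filter.2 ⟨Finset.mem_univ _, fun h0 => (Finset.mem_filter.1 hψ).2 ?_⟩, hψ'⟩
    rw [he] at h0
    refine Matrix.ext fun i j => (frobenius_inj (ResField M) 2) ?_
    rw [Matrix.zero_apply, map_zero]
    exact congrFun (congrFun h0 i) j

end Cfsg.Agent.Lib.OddLinear
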