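import Cfsg.Agent.Lib.OddLinear.HalfDegree
import Cfsg.Agent.Lib.Characters.BlichfeldtReduce

/-!
# Normal Sylow subgroups in linear groups of odd order and degree at most `(p - 1) / 2`
-/

set_option autoImplicit false
set_option linter.unusedSectionVars false
set_option linter.style.haveILetI false

namespace Cfsg.Agent.Lib.OddLinear

open Cfsg Cfsg.Agent.Lib.Characters Cfsg.Agent.Lib.Blocks

universe u

theorem normal_of_half {G : Type u} [Group G] [Finite G] (p : ℕ) [Fact p.Prime] (hp5 : 5 ≤ p)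
    (hodd : Odd (Nat.card G)) (hsq : ¬ p ^ 2 ∣ Nat.card G) (χ : G → ℂ) (hχ : IsCharacter G χ)
    (hfaith : ∀ g : G, χ g = χ 1 → g = 1) (hd : 2 * charDegree χ + 1 ≤ p) (Q : Sylow p G) :
    (Q : Subgroup G).Normal := by
  classical
  have hp : p.Prime := Fact.out
  obtain ⟨k, hk⟩ := IsPGroup.iff_card.mp Q.2
  rcases k with _ | _ | k
  · rw [pow_zero, Subgroup.card_eq_one] at hk
    rw [hk]; infer_instance
  swap
  · exact absurd ((hk ▸ pow_dvd_pow p (by omega : 2 ≤ k + 1 + 1)).trans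
      (Subgroup.card_subgroup_dvd_card (Q : Subgroup G))) hsq
  rw [pow_one] at hk
  obtain ⟨⟨v, hvQ⟩, hv'⟩ := exists_prime_orderOf_dvd_card' (G := (Q : Subgroup G)) p (by rw [hk])
  have hv : orderOf v = p := by rw [← hv', ← Subgroup.orderOf_coe]
  haveI := Fintype.ofFinite G
  obtain ⟨M, hM⟩ := exists_isPModular hp
  haveI : M.IsPrime := hM.2.1.isPrime
  have hQv : (Q : Subgroup G) = Subgroup.zpowers v := by
    refine (Subgroup.eq_of_le_of_card_ge (Subgroup.zpowers_le.2 hvQ) ?_).symm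
    rw [hk, Nat.card_zpowers, hv]
  rw [hQv]
  set P₀ := Subgroup.zpowers v with hP₀
  have hP₀c : Nat.card P₀ = p := by rw [Nat.card_zpowers, hv]
  set K := Subgroup.normalClosure (P₀ : Set G) with hK
  have hP₀K : P₀ ≤ K := Subgroup.le_normalClosure
  haveI := Fintype.ofFinite K
  set P := P₀.subgroupOf K with hP
  have hPc : Nat.card P = p := by
    rw [Nat.card_congr (Subgroup.subgroupOfEquivOfLe hP₀K).toEquiv, hP₀c]
  have hsqK : ¬ p ^ 2 ∣ Nat.card K := fun h => hsq (h.trans (Subgroup.card_subgroup_dvd_card K))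
  obtain ⟨u, O, S⟩ := exists_primeSplit P hPc hsqK
  haveI := Fintype.ofFinite O
  haveI := Fintype.ofFinite (Subgroup.centralizer (P : Set K))
  have hfacK : p ^ (Nat.card K).factorization p = p := by
    have hd : p ∣ Nat.card K := hPc ▸ Subgroup.card_subgroup_dvd_card P
    have h1 : (Nat.card K).factorization p = 1 := by
      refine le_antisymm ?_ (hp.factorization_pos_of_dvd Nat.card_pos.ne' hd)
      by_contra hgt
      exact hsqK ((pow_dvd_pow p (by omega : 2 ≤ (Nat.card K).factorization p)).trans (Nat.ordProj_dvd _ _))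
    rw [h1, pow_one]
  let Ps : Sylow p K := Sylow.ofCard P (by rw [hPc, hfacK])
  have hconj : ∀ a : K, a ^ p = 1 → ∃ (c : K) (x : K), x ∈ P ∧ a = c * x * c⁻¹ := by
    intro a ha
    obtain ⟨k, -, hk⟩ := (Nat.dvd_prime_pow hp).1 (show orderOf a ∣ p ^ 1 by rw [pow_one]; exact orderOf_dvd_of_pow_eq_one ha)
    obtain ⟨Q, hQ⟩ := (IsPGroup.of_card (G := Subgroup.zpowers a) (n := k) (by rw [Nat.card_zpowers, hk])).exists_le_sylow
    obtain ⟨c, hc⟩ := MulAction.exists_smul_eq K Ps Q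
    have haQ : a ∈ ((c • Ps : Sylow p K) : Subgroup K) := by rw [hc]; exact hQ (Subgroup.mem_zpowers a)
    rw [Sylow.coe_subgroup_smul, Subgroup.mem_pointwise_smul_iff_inv_smul_mem] at haQ
    have hx : c⁻¹ * a * c ∈ P := by
      have h2 : (MulAut.conj c)⁻¹ • a ∈ (Ps : Subgroup K) := haQ
      simpa using (show (MulAut.conj c)⁻¹ a ∈ P from h2)
    exact ⟨c, c⁻¹ * a * c, hx, by group⟩
  have hgenP : ∀ x ∈ P, ∃ i : ℕ, x = u ^ i := fun x hx => by
    obtain ⟨i, rfl⟩ := exists_upow_eq S.card_P S.mem S.ne_one hx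
    exact ⟨i.val, rfl⟩
  have hgen : ∀ l : K →* ℂˣ, l u = 1 → l = 1 := by
    intro l hl
    have hsub : ∀ a : K, a ^ p = 1 → l a = 1 := by
      intro a ha
      obtain ⟨c, x, hx, rfl⟩ := hconj a ha
      obtain ⟨i, rfl⟩ := hgenP x hx
      simp [hl]
    have hle : K ≤ l.ker.map K.subtype := by
      refine (Subgroup.closure_le _).2 fun g hg => ?_
      obtain ⟨z, hz, hzg⟩ := Group.mem_conjugatesOfSet_iff.1 hg
      obtain ⟨c, hc⟩ := isConj_iff.1 hzg
      have hgK : g ∈ K := Subgroup.subset_closure hg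
      refine ⟨⟨g, hgK⟩, hsub _ (Subtype.ext ?_), rfl⟩
      show g ^ p = 1
      rw [← hc, conj_pow]
      have hzp : z ^ p = 1 := by
        rw [← orderOf_dvd_iff_pow_eq_one, ← hP₀c]
        exact Subgroup.orderOf_dvd_natCard _ hz
      rw [hzp, mul_one, mul_inv_cancel]
    refine MonoidHom.ext fun a => ?_
    obtain ⟨b, hb, hba⟩ := hle a.2
    rw [← Subtype.ext (show (b : G) = (a : G) from hba)]
    exact hb
  have hd1 : χ 1 = (charDegree χ : ℂ) := Cfsg.Agent.Lib.BlockHeights.apply_one_eq_charDegree hχ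
  -- the generator is central
  have hoddK : Odd (Nat.card K) := hodd.of_dvd_nat (Subgroup.card_subgroup_dvd_card K)
  have hcent : ∀ g : K, u * g * u⁻¹ * g⁻¹ = 1 := by
    intro g
    haveI := Fintype.ofFinite (IrrCharacter K)
    have hr : IsCharacter K (fun k : K => χ k) := IsCharacter.restrict hχ K
    obtain ⟨m, hm, -⟩ := IsCharacter.exists_nat_decomp hr
    have hdeg : charDegree χ = ∑ ψ : IrrCharacter K, m ψ * charDegree (ψ : K → ℂ) := by
      refine Nat.cast_injective (R := ℂ) ?_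
      have h1 := congrFun hm 1
      rw [OneMemClass.coe_one, hd1, Finset.sum_apply] at h1
      rw [h1, Nat.cast_sum]
      exact Finset.sum_congr rfl fun ψ _ => by rw [Pi.smul_apply, smul_eq_mul, Nat.cast_mul, Cfsg.Agent.Lib.Blocks.charDegree_eq]
    have heq : χ ((u * g * u⁻¹ * g⁻¹ : K) : G) = χ 1 := by
      have h1 := congrFun hm (u * g * u⁻¹ * g⁻¹)
      have h2 := congrFun hm 1
      rw [OneMemClass.coe_one] at h2
      rw [h1, h2, Finset.sum_apply, Finset.sum_apply]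
      refine Finset.sum_congr rfl fun ψ _ => ?_
      rw [Pi.smul_apply, Pi.smul_apply]
      by_cases hmψ : m ψ = 0
      · simp [hmψ]
      have hle : charDegree (ψ : K → ℂ) ≤ charDegree χ := by
        rw [hdeg]
        exact (Nat.le_mul_of_pos_left _ (Nat.pos_of_ne_zero hmψ)).trans
          (Finset.single_le_sum (f := fun ψ : IrrCharacter K => m ψ * charDegree (ψ : K → ℂ))
            (fun _ _ => Nat.zero_le _) (Finset.mem_univ ψ))
      rw [comm_eq_of_half hM S hgen ψ hp5 hoddK (by omega) g]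
    exact Subtype.ext (hfaith _ heq)
  -- hence `P` is normal
  refine ⟨fun x hx g => ?_⟩
  have hgK : g * x * g⁻¹ ∈ K := Subgroup.normalClosure_normal.conj_mem x (hP₀K hx) g
  have hxp : x ^ p = 1 := by
    rw [← orderOf_dvd_iff_pow_eq_one, ← hP₀c]
    exact Subgroup.orderOf_dvd_natCard _ hx
  obtain ⟨c, y, hy, hcy⟩ := hconj ⟨g * x * g⁻¹, hgK⟩ (Subtype.ext (by
    show (g * x * g⁻¹) ^ p = 1
    rw [conj_pow, hxp, mul_one, mul_inv_cancel]))
  obtain ⟨i, rfl⟩ := hgenP y hy
  have hcomm : Commute u c := by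
    have h1 := hcent c
    rw [mul_inv_eq_one, mul_inv_eq_iff_eq_mul] at h1
    exact h1
  have hfix : c * u ^ i * c⁻¹ = u ^ i := by
    rw [← (hcomm.pow_left i).eq, mul_inv_cancel_right]
  rw [hfix] at hcy
  have h3 : ((u ^ i : K) : G) ∈ P₀ := Subgroup.mem_subgroupOf.1 hy
  rw [← hcy] at h3
  exact h3


/-- A linear group of odd order and degree at most `(p - 1) / 2` has a normal Sylow `p`-subgroup. -/
theorem normal_sylow_half {G : Type u} [Group G] [Finite G] (p : ℕ) [Fact p.Prime] (hp5 : 5 ≤ p)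
    (hodd : Odd (Nat.card G)) {n : ℕ} (ρ : Representation ℂ G (Fin n → ℂ))
    (hρ : Function.Injective ρ) (hn : 2 * n + 1 ≤ p) (P : Sylow p G) : (P : Subgroup G).Normal := by
  refine normal_sylow_of_small_degree rfl n ρ hρ (Or.inr ⟨by omega, fun K hK Q => ?_⟩) P
  let σ : Representation ℂ K (Fin n → ℂ) := ρ.comp K.subtype
  have hσ : IsCharacter K σ.character := ⟨n, σ, rfl⟩
  refine normal_of_half p hp5 (hodd.of_dvd_nat (Subgroup.card_subgroup_dvd_card K)) hK σ.character hσ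
    (fun g hg => ?_) ?_ Q
  · rw [σ.char_one, char_eq_finrank_iff] at hg
    exact Subtype.ext (hρ (show ρ (g : G) = ρ 1 from hg.trans (map_one ρ).symm))
  · have h1 : charDegree σ.character = n := by
      rw [charDegree, σ.char_one, Module.finrank_fin_fun, Complex.natCast_re, Nat.floor_natCast]
    omega

/-- If every irreducible constituent has small degree or kills the `p`-elements, then the
`p`-elements form a normal Sylow subgroup. -/
theorem normal_sylow_of_constituents {G : Type u} [Group G] [Finite G] (p : ℕ) [Fact p.Prime]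
    (hp5 : 5 ≤ p) (hodd : Odd (Nat.card G)) (S : Set (IrrCharacter G))
    (hfaith : ∀ g : G, (∀ ψ ∈ S, (ψ : G → ℂ) g = (ψ : G → ℂ) 1) → g = 1)
    (hS : ∀ ψ ∈ S, 2 * charDegree (ψ : G → ℂ) + 1 ≤ p ∨
      ∀ x : G, (∃ k : ℕ, x ^ p ^ k = 1) → (ψ : G → ℂ) x = (ψ : G → ℂ) 1)
    (P : Sylow p G) : (P : Subgroup G).Normal := by
  classical
  have hp : p.Prime := Fact.out
  set N := (Nat.card G).factorization p with hN
  have hpe : ∀ x : G, (∃ k : ℕ, x ^ p ^ k = 1) → x ^ p ^ N = 1 := by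
    rintro x ⟨k, hk⟩
    obtain ⟨i, -, hi⟩ := (Nat.dvd_prime_pow hp).1 (orderOf_dvd_of_pow_eq_one hk)
    have h1 := orderOf_dvd_natCard x
    rw [hi, hp.pow_dvd_iff_le_factorization Nat.card_pos.ne'] at h1
    exact orderOf_dvd_iff_pow_eq_one.1 (hi ▸ pow_dvd_pow p h1)
  have hmul : ∀ x y : G, (∃ k : ℕ, x ^ p ^ k = 1) → (∃ k : ℕ, y ^ p ^ k = 1) →
      ∃ k : ℕ, (x * y) ^ p ^ k = 1 := by
    intro x y hx hy
    refine ⟨N, hfaith _ fun ψ hψ => ?_⟩
    obtain ⟨n, ρ, hirr, hρ⟩ := ψ.2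
    have hker : ∀ g : G, (ψ : G → ℂ) g = (ψ : G → ℂ) 1 ↔ ρ g = 1 := fun g => by
      rw [← hρ, ρ.char_one, char_eq_finrank_iff]; rfl
    rcases hS ψ hψ with hd | htriv
    · let σ : Representation ℂ (G ⧸ ρ.ker) (Fin n → ℂ) := QuotientGroup.lift ρ.ker ρ le_rfl
      have hσ : Function.Injective σ := by
        intro a b hab
        obtain ⟨a, rfl⟩ := QuotientGroup.mk_surjective a
        obtain ⟨b, rfl⟩ := QuotientGroup.mk_surjective b
        rw [QuotientGroup.eq, MonoidHom.mem_ker]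
        have h1 : ρ a = ρ b := hab
        rw [map_mul, ← h1, ← map_mul, inv_mul_cancel, map_one]
      have hn : 2 * n + 1 ≤ p := by
        have h1 : charDegree (ψ : G → ℂ) = n := by
          rw [charDegree, ← hρ, ρ.char_one, Module.finrank_fin_fun, Complex.natCast_re, Nat.floor_natCast]
        omega
      obtain ⟨R⟩ : Nonempty (Sylow p (G ⧸ ρ.ker)) := inferInstance
      have hR := normal_sylow_half p hp5
        (hodd.of_dvd_nat (Subgroup.card_quotient_dvd_card _)) σ hσ hn R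
      have hmem : ∀ z : G, (∃ k : ℕ, z ^ p ^ k = 1) → (z : G ⧸ ρ.ker) ∈ (R : Subgroup (G ⧸ ρ.ker)) := by
        rintro z ⟨k, hk⟩
        have hz : IsPGroup p (Subgroup.zpowers (z : G ⧸ ρ.ker)) := by
          rintro ⟨w, hw⟩
          obtain ⟨i, rfl⟩ := Subgroup.mem_zpowers_iff.1 hw
          refine ⟨k, Subtype.ext ?_⟩
          show ((z : G ⧸ ρ.ker) ^ i) ^ p ^ k = 1
          rw [← zpow_natCast, ← zpow_mul, mul_comm, zpow_mul, zpow_natCast, ← QuotientGroup.mk_pow,
            hk, QuotientGroup.mk_one, one_zpow]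
        haveI := hR
        have h1 := R.is_maximal' (hz.to_sup_of_normal_right R.2) le_sup_right
        exact h1 ▸ Subgroup.mem_sup_left (Subgroup.mem_zpowers _)
      obtain ⟨k, hk⟩ := R.2 ⟨_, mul_mem (hmem x hx) (hmem y hy)⟩
      have hk' : ((x * y : G) : G ⧸ ρ.ker) ^ p ^ k = 1 := congrArg Subtype.val hk
      have h2 : ((x * y : G) : G ⧸ ρ.ker) ^ p ^ N = 1 := by
        obtain ⟨i, -, hi⟩ := (Nat.dvd_prime_pow hp).1 (orderOf_dvd_of_pow_eq_one hk')
        have h1 := (orderOf_dvd_natCard ((x * y : G) : G ⧸ ρ.ker)).trans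
          (Subgroup.card_quotient_dvd_card ρ.ker)
        rw [hi, hp.pow_dvd_iff_le_factorization Nat.card_pos.ne'] at h1
        exact orderOf_dvd_iff_pow_eq_one.1 (hi ▸ pow_dvd_pow p h1)
      rw [← QuotientGroup.mk_pow, QuotientGroup.eq_one_iff, MonoidHom.mem_ker] at h2
      exact (hker _).2 h2
    · refine (hker _).2 ?_
      rw [map_pow, map_mul, (hker x).1 (htriv x hx), (hker y).1 (htriv y hy), mul_one, one_pow]
  let T : Subgroup G :=
    { carrier := {x | ∃ k : ℕ, x ^ p ^ k = 1}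
      one_mem' := ⟨0, one_pow _⟩
      mul_mem' := fun {a b} ha hb => hmul a b ha hb
      inv_mem' := fun {a} ⟨k, hk⟩ => ⟨k, by rw [inv_pow, hk, inv_one]⟩ }
  have hT : IsPGroup p T := fun ⟨x, k, hk⟩ => ⟨k, Subtype.ext hk⟩
  have hPT : (P : Subgroup G) ≤ T := fun x hx => by
    obtain ⟨k, hk⟩ := P.2 ⟨x, hx⟩
    exact ⟨k, congrArg Subtype.val hk⟩
  rw [← P.is_maximal' hT hPT]
  exact ⟨fun x ⟨k, hk⟩ g => ⟨k, by rw [conj_pow, hk, mul_one, mul_inv_cancel]⟩⟩

end Cfsg.Agent.Lib.OddLinear
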