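import Cfsg.Agent.Lib.OddLinear.Solvable
import Cfsg.Agent.S3360
import Cfsg.Agent.S1459
import Cfsg.Agent.Lib.Cores
import Mathlib.FieldTheory.Finite.GaloisField

/-!
# The structure of transitive linear groups of odd order
-/

set_option autoImplicit false
set_option linter.unusedSectionVars false
set_option linter.style.haveILetI false

namespace Cfsg.Agent.Lib.OddLinear

open Cfsg Matrix

universe u v

/-- Elements of odd order cannot send a vector of an elementary abelian group to its negative. -/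
theorem prime_eq_two {D : Type u} {E : Type v} [Group D] [Finite D] [AddCommGroup E] [Nontrivial E]
    [DistribMulAction D E] (hodd : Odd (Nat.card D)) {q : ℕ} (hq : q.Prime) (hE : ∀ e : E, q • e = 0)
    (htrans : ∀ a b : E, a ≠ 0 → b ≠ 0 → ∃ d : D, d • a = b) : q = 2 := by
  by_contra hne
  obtain ⟨a, ha⟩ := exists_ne (0 : E)
  obtain ⟨d, hd⟩ := htrans a (-a) ha (neg_ne_zero.2 ha)
  have h2 : d ^ 2 • a = a := by rw [pow_two, mul_smul, hd, smul_neg, hd, neg_neg]
  obtain ⟨c, hc⟩ := hodd.of_dvd_nat (orderOf_dvd_natCard d)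
  have h2c : ∀ i : ℕ, (d ^ 2) ^ i • a = a := fun i => by
    induction i with
    | zero => rw [pow_zero, one_smul]
    | succ i ih => rw [pow_succ, mul_smul, h2, ih]
  have h3 : -a = a := by
    calc -a = d • a := hd.symm
      _ = d • ((d ^ 2) ^ c • a) := by rw [h2c]
      _ = a := by rw [← mul_smul, ← pow_mul, ← pow_succ', ← hc, pow_orderOf_eq_one, one_smul]
  have h4 : 2 • a = 0 := by rw [two_nsmul]; nth_rewrite 1 [← h3]; exact neg_add_cancel a
  have h5 : addOrderOf a = q := by
    have h := addOrderOf_dvd_of_nsmul_eq_zero (hE a)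
    rcases (Nat.dvd_prime hq).1 h with h | h
    · exact absurd (AddMonoid.addOrderOf_eq_one_iff.1 h) ha
    · exact h
  have h6 := addOrderOf_dvd_of_nsmul_eq_zero h4
  rw [h5] at h6
  exact hne ((Nat.prime_dvd_prime_iff_eq hq Nat.prime_two).1 h6)

/-- A transitive group of odd order of linear maps over the field with two elements is solvable. -/
theorem isSolvable_of_linear {D : Type u} {E : Type v} [Group D] [Finite D]
    [AddCommGroup E] [Finite E] [Module (ZMod 2) E] (hodd : Odd (Nat.card D))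
    (lin : D →* (E ≃ₗ[ZMod 2] E)) (hlin : Function.Injective lin)
    (htrans' : ∀ v w : E, v ≠ 0 → w ≠ 0 → ∃ g : D, lin g v = w) : Group.IsSolvable D := by
  haveI : Fact (Nat.Prime 2) := ⟨Nat.prime_two⟩
  haveI : Module.Finite (ZMod 2) E := Module.Finite.of_finite
  haveI := Fintype.ofFinite D
  let b := Module.finBasis (ZMod 2) E
  let ρ : D →* Matrix (Fin (Module.finrank (ZMod 2) E)) (Fin (Module.finrank (ZMod 2) E)) (ZMod 2) :=
    { toFun := fun g => LinearMap.toMatrix b b (lin g).toLinearMap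
      map_one' := by rw [map_one]; exact LinearMap.toMatrix_id b
      map_mul' := fun g h => by
        rw [← LinearMap.toMatrix_comp b b b, map_mul]
        rfl }
  have hval : ∀ g x, ρ g *ᵥ (b.repr x) = b.repr (lin g x) := fun g x =>
    LinearMap.toMatrix_mulVec_repr b b (lin g).toLinearMap x
  refine isSolvable_of_transitive (ρ := ρ) hodd (fun g h hgh => hlin ?_) fun v w hv hw => ?_
  · exact LinearEquiv.toLinearMap_injective ((LinearMap.toMatrix b b).injective hgh)
  · have hv' : b.equivFun.symm v ≠ 0 := fun h => hv (b.equivFun.symm.injective (h.trans (map_zero _).symm))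
    have hw' : b.equivFun.symm w ≠ 0 := fun h => hw (b.equivFun.symm.injective (h.trans (map_zero _).symm))
    obtain ⟨g, hg⟩ := htrans' _ _ hv' hw'
    refine ⟨g, ?_⟩
    have h := hval g (b.equivFun.symm v)
    rw [hg, ← Module.Basis.equivFun_apply, ← Module.Basis.equivFun_apply,
      LinearEquiv.apply_symm_apply, LinearEquiv.apply_symm_apply] at h
    exact h

set_option maxHeartbeats 400000 in
/-- The structure of a transitive linear group of odd order. -/
theorem exists_structure {D : Type u} {E : Type v} [Group D] [Finite D]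
    [AddCommGroup E] [Finite E] [Nontrivial E] [DistribMulAction D E] [FaithfulSMul D E]
    (hodd : Odd (Nat.card D)) (hE : ∀ e : E, 2 • e = 0)
    (htrans : ∀ a b : E, a ≠ 0 → b ≠ 0 → ∃ d : D, d • a = b) :
    ∃ L : Subgroup D, L = Cfsg.fittingSubgroup D ∧ L.Normal ∧ IsCyclic L ∧
      (∀ g ∈ L, g ≠ 1 → ∀ a : E, g • a = a → a = 0) ∧
      (∀ x y : D, x * y * x⁻¹ * y⁻¹ ∈ L) ∧
      (∀ g : D, (∀ h ∈ L, g * h = h * g) → g ∈ L) ∧
      ∃ v : D, L ⊔ Subgroup.closure {v} = ⊤ := by
  classical
  haveI : Fact (Nat.Prime 2) := ⟨Nat.prime_two⟩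
  letI : Module (ZMod 2) E := AddCommGroup.zmodModule hE
  haveI : Module.Finite (ZMod 2) E := Module.Finite.of_finite
  set r := Module.finrank (ZMod 2) E with hrdef
  have hr0 : 0 < r := Module.finrank_pos
  let lin : D →* (E ≃ₗ[ZMod 2] E) :=
    { toFun := fun g =>
        { (DistribMulAction.toAddEquiv E g) with
          map_smul' := fun c x => by
            show g • (c • x) = c • (g • x)
            obtain ⟨n, rfl⟩ := ZMod.natCast_zmod_surjective c
            rw [Nat.cast_smul_eq_nsmul, Nat.cast_smul_eq_nsmul]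
            exact map_nsmul (DistribMulAction.toAddMonoidHom E g) n x }
      map_one' := LinearEquiv.ext fun x => one_smul D x
      map_mul' := fun g h => LinearEquiv.ext fun x => mul_smul g h x }
  have hlin : Function.Injective lin := fun g h hgh =>
    eq_of_smul_eq_smul (α := E) fun x => LinearEquiv.congr_fun hgh x
  have htrans' : ∀ v w : E, v ≠ 0 → w ≠ 0 → ∃ g : D, lin g v = w := htrans
  -- solvability
  have hsol : Group.IsSolvable D := isSolvable_of_linear hodd lin hlin htrans'
  -- semilinear coordinates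
  have hcardE : Nat.card E = 2 ^ r := by
    rw [Module.natCard_eq_pow_finrank (K := ZMod 2), Nat.card_zmod]
  rcases Cfsg.Agent.S3360.result 2 hsol lin hlin htrans' with ⟨F, _, _, e, hsl⟩ | hexc
  swap
  · exfalso
    have heven : 2 ∣ Nat.card E := hcardE ▸ dvd_pow_self 2 hr0.ne'
    simp only [Set.mem_insert_iff, Set.mem_singleton_iff] at hexc
    omega
  haveI : CharP F 2 := by
    refine (CharP.charP_iff_prime_eq_zero Nat.prime_two).2 ?_
    have h := congrArg e (hE (e.symm 1))
    rw [map_nsmul, e.apply_symm_apply, map_zero, nsmul_eq_mul, mul_one] at h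
    exact h
  letI : Algebra (ZMod 2) F := ZMod.algebra F 2
  have hrF : Module.finrank (ZMod 2) F = r := by
    have h := Module.natCard_eq_pow_finrank (K := ZMod 2) (V := F)
    rw [← Nat.card_congr e.toEquiv, hcardE, Nat.card_zmod] at h
    exact (Nat.pow_right_injective le_rfl h).symm
  choose A S hAS using hsl
  have hAS' : ∀ g y, e (g • e.symm y) = A g * S g y := fun g y => by
    have h := hAS g (e.symm y)
    rwa [e.apply_symm_apply] at h
  have hA : ∀ g, A g = e (g • e.symm 1) := fun g => by rw [hAS', map_one, mul_one]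
  have hA0 : ∀ g, A g ≠ 0 := by
    intro g h0
    have h := hAS' g 1
    rw [h0, zero_mul, EmbeddingLike.map_eq_zero_iff, smul_eq_zero_iff_eq, EmbeddingLike.map_eq_zero_iff] at h
    exact one_ne_zero h
  have hmul : ∀ g h, A (g * h) = A g * S g (A h) ∧ ∀ y, S (g * h) y = S g (S h y) := by
    intro g h
    have key : ∀ y, A (g * h) * S (g * h) y = A g * S g (A h) * S g (S h y) := by
      intro y
      rw [← hAS' (g * h) y, mul_smul, ← e.symm_apply_apply (h • e.symm y), hAS' h y, hAS' g, map_mul,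
        mul_assoc]
    have h1 := key 1
    rw [map_one, map_one, map_one, mul_one, mul_one] at h1
    refine ⟨h1, fun y => ?_⟩
    have h2 := key y
    rw [← h1] at h2
    exact mul_left_cancel₀ (hA0 _) h2
  let toAlg : (F ≃+* F) → Gal(F/ZMod 2) := fun σ =>
    AlgEquiv.ofRingEquiv (f := σ) fun x =>
      DFunLike.congr_fun (Subsingleton.elim (σ.toRingHom.comp (algebraMap (ZMod 2) F)) (algebraMap (ZMod 2) F)) x
  let Sig : D →* Gal(F/ZMod 2) :=
    { toFun := fun g => toAlg (S g)
      map_one' := AlgEquiv.ext fun y => by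
        show S 1 y = y
        have h := (hmul 1 1).2 y
        rw [one_mul] at h
        exact (S 1).injective h.symm
      map_mul' := fun g h => AlgEquiv.ext fun y => (hmul g h).2 y }
  have hSig : ∀ g y, Sig g y = S g y := fun g y => rfl
  set L := Sig.ker with hL
  have hmemL : ∀ g, g ∈ L ↔ ∀ y, S g y = y := fun g =>
    ⟨fun h y => by rw [← hSig, MonoidHom.mem_ker.1 h]; rfl,
      fun h => MonoidHom.mem_ker.2 (AlgEquiv.ext h)⟩
  let f : L →* F :=
    { toFun := fun g => A g
      map_one' := by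
        show A ((1 : L) : D) = 1
        rw [OneMemClass.coe_one, hA, one_smul, e.apply_symm_apply]
      map_mul' := fun g h => by
        show A ((g : D) * h) = A g * A h
        rw [(hmul _ _).1, (hmemL _).1 g.2] }
  have hf : Function.Injective f := by
    intro g h hgh
    refine Subtype.ext (eq_of_smul_eq_smul (α := E) fun x => e.injective ?_)
    have hx := e.symm_apply_apply x
    rw [← hx, hAS', hAS', (hmemL _).1 g.2, (hmemL _).1 h.2]
    exact congrArg (· * _) hgh
  haveI hLc : IsCyclic L := isCyclic_of_subgroup_isDomain f hf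
  have hfpf : ∀ g ∈ L, g ≠ 1 → ∀ a : E, g • a = a → a = 0 := by
    intro g hg hg1 a ha
    by_contra ha0
    have h := hAS' g (e a)
    rw [e.symm_apply_apply, ha, (hmemL g).1 hg] at h
    have h1 : A g = 1 := by
      have := mul_right_cancel₀ (fun h0 => ha0 (e.map_eq_zero_iff.1 h0)) ((one_mul (e a)).trans h)
      exact this.symm
    have h2 : (⟨g, hg⟩ : L) = 1 := hf (show f ⟨g, hg⟩ = f 1 by rw [map_one]; exact h1)
    exact hg1 (congrArg Subtype.val h2)
  have hcommL : ∀ x y : D, x * y * x⁻¹ * y⁻¹ ∈ L := by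
    intro x y
    obtain ⟨c, hc⟩ := IsCyclic.exists_zpow_surjective (G := Gal(F/ZMod 2))
    obtain ⟨i, hi⟩ := hc (Sig x)
    obtain ⟨j, hj⟩ := hc (Sig y)
    rw [hL, MonoidHom.mem_ker, map_mul, map_mul, map_mul, map_inv, map_inv, ← hi, ← hj]
    group
  obtain ⟨v, hv⟩ : ∃ v : D, L ⊔ Subgroup.closure {v} = ⊤ := by
    obtain ⟨c, hc⟩ := IsCyclic.exists_zpow_surjective (G := Sig.range)
    obtain ⟨v, hv⟩ := MonoidHom.mem_range.1 c.2
    refine ⟨v, eq_top_iff.2 fun g _ => ?_⟩
    obtain ⟨i, hi⟩ := hc ⟨Sig g, MonoidHom.mem_range.2 ⟨g, rfl⟩⟩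
    have hi' : (c : Gal(F/ZMod 2)) ^ i = Sig g :=
      (SubgroupClass.coe_zpow c i).symm.trans (congrArg Subtype.val hi)
    have h1 : g * (v ^ i)⁻¹ ∈ Sig.ker := by
      rw [MonoidHom.mem_ker, map_mul, map_inv, map_zpow, hv, hi', mul_inv_cancel]
    have h2 : g = g * (v ^ i)⁻¹ * v ^ i := (inv_mul_cancel_right g (v ^ i)).symm
    rw [h2]
    exact mul_mem (Subgroup.mem_sup_left h1)
      (Subgroup.mem_sup_right (zpow_mem (Subgroup.subset_closure (Set.mem_singleton v)) i))
  -- elements centralizing an element of suitable prime order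
  have hkey : r = 1 ∨ ∃ (p : ℕ), p.Prime ∧ r < p ∧ ∃ h ∈ L, orderOf h = p ∧
      ∀ g : D, g * h = h * g → g ∈ L := by
    rcases Nat.lt_or_ge r 2 with hr | hr
    · exact Or.inl (by omega)
    right
    obtain ⟨p, hp, hpd, hrp, hspec⟩ : ∃ p : ℕ, p.Prime ∧ p ∣ 2 ^ r - 1 ∧ r < p ∧
        ∀ n : ℕ, n < r → p ∣ 2 ^ n - 1 → n = 0 ∨ 2 * n = r := by
      by_cases h6 : r = 6
      · refine ⟨7, by norm_num, by rw [h6]; norm_num, by omega, fun n hn hd => ?_⟩
        rw [h6] at hn ⊢
        interval_cases n <;> simp at hd ⊢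
      by_cases h2 : r = 2
      · refine ⟨3, by norm_num, by rw [h2]; norm_num, by omega, fun n hn hd => ?_⟩
        rw [h2] at hn ⊢
        interval_cases n <;> simp at hd ⊢
      obtain ⟨p, hp, hpd, hprim⟩ := Cfsg.Agent.S2904.result 2 r (by norm_num) (by omega) (by omega) (by omega)
      have h1 := Cfsg.Agent.Lib.SolvTransLinear.primitive_mod (by norm_num) hr0 hp hpd hprim
      have h3 := Nat.le_of_dvd (by have := hp.two_le; omega) h1
      refine ⟨p, hp, hpd, by omega, fun n hn hd => Or.inl ?_⟩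
      by_contra h0
      exact hprim n (Nat.pos_of_ne_zero h0) hn hd
    haveI := Fact.mk hp
    have hpD : p ∣ Nat.card D :=
      hpd.trans (Cfsg.Agent.Lib.SolvTransLinear.card_nonzero_dvd (ρ := lin) htrans')
    have hpS : ¬ p ∣ Nat.card Sig.range := by
      intro h
      have h1 := h.trans (Subgroup.card_subgroup_dvd_card Sig.range)
      rw [IsGalois.card_aut_eq_finrank, hrF] at h1
      have := Nat.le_of_dvd hr0 h1
      omega
    have hpL : p ∣ Nat.card L := by
      have h := L.card_mul_index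
      rw [hL, Subgroup.index_ker] at h
      rw [← h] at hpD
      exact (hp.dvd_mul.1 hpD).resolve_right hpS
    obtain ⟨⟨h, hh⟩, ho⟩ := exists_prime_orderOf_dvd_card' (G := L) p hpL
    refine ⟨p, hp, hrp, h, hh, by rw [← ho, ← Subgroup.orderOf_coe], fun g hg => ?_⟩
    -- the automorphism of `g` fixes the scalar of `h`
    have h1 : S g (A h) = A h := by
      have ha := (hmul g h).1
      have hb := (hmul h g).1
      rw [hg] at ha
      rw [ha, (hmemL h).1 hh, mul_comm (A h)] at hb
      exact mul_left_cancel₀ (hA0 g) hb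
    have hAh : orderOf (A h) = p := by
      rw [← ho]
      exact orderOf_injective f hf ⟨h, hh⟩
    obtain ⟨⟨n, hn⟩, hσ⟩ := (FiniteField.bijective_frobeniusAlgEquivOfAlgebraic_pow (ZMod 2) F).2 (Sig g)
    replace hσ : FiniteField.frobeniusAlgEquivOfAlgebraic (ZMod 2) F ^ n = Sig g := hσ
    have hpow : ∀ (m : ℕ) (y : F),
        (FiniteField.frobeniusAlgEquivOfAlgebraic (ZMod 2) F ^ m) y = y ^ 2 ^ m := by
      intro m
      induction m with
      | zero => intro y; simp
      | succ m ih =>
        intro y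
        rw [pow_succ', AlgEquiv.mul_apply, ih, FiniteField.coe_frobeniusAlgEquivOfAlgebraic]
        show (y ^ 2 ^ m) ^ Fintype.card (ZMod 2) = y ^ 2 ^ (m + 1)
        rw [← pow_mul, ZMod.card, pow_succ]
    have h2 : A h ^ 2 ^ n = A h := by rw [← hpow, hσ, hSig, h1]
    have h3 : p ∣ 2 ^ n - 1 := by
      rw [← hAh, orderOf_dvd_iff_pow_eq_one]
      refine mul_left_cancel₀ (hA0 h) ?_
      rw [← pow_succ', Nat.sub_add_cancel Nat.one_le_two_pow, h2, mul_one]
    rw [hrF] at hn
    rcases hspec n hn h3 with h0 | h0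
    · rw [hL, MonoidHom.mem_ker, ← hσ, h0, pow_zero]
    · have hsq : Sig g ^ 2 = 1 := by
        refine AlgEquiv.ext fun y => ?_
        rw [← hσ, ← pow_mul, hpow, mul_comm, h0, ← hrF]
        show y ^ 2 ^ Module.finrank (ZMod 2) F = y
        have h4 := Module.natCard_eq_pow_finrank (K := ZMod 2) (V := F)
        rw [Nat.card_zmod, Nat.card_eq_fintype_card] at h4
        rw [← h4, FiniteField.pow_card]
      rw [hL, MonoidHom.mem_ker]
      have h5 : orderOf (Sig g) ∣ 2 := orderOf_dvd_of_pow_eq_one hsq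
      have h6 : orderOf (Sig g) ∣ Nat.card D := (orderOf_map_dvd Sig g).trans (orderOf_dvd_natCard g)
      exact orderOf_eq_one_iff.1 (Nat.dvd_one.1
        ((Nat.prime_two.coprime_iff_not_dvd.2 hodd.not_two_dvd_nat) ▸ Nat.dvd_gcd h5 h6))
  have hr1L : r = 1 → L = ⊤ := by
    intro h1
    refine eq_top_iff.2 fun g _ => MonoidHom.mem_ker.2 ?_
    have hcard : Nat.card Gal(F/ZMod 2) = 1 := by rw [IsGalois.card_aut_eq_finrank, hrF, h1]
    haveI := (Nat.card_eq_one_iff_unique.1 hcard).1
    exact Subsingleton.elim _ _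
  have hcent : ∀ g : D, (∀ h ∈ L, g * h = h * g) → g ∈ L := by
    intro g hg
    rcases hkey with h | ⟨p, hp, hrp, h, hh, ho, hc⟩
    · rw [hr1L h]; trivial
    · exact hc g (hg h hh)
  haveI hLn : L.Normal := MonoidHom.normal_ker Sig
  refine ⟨L, ?_, hLn, hLc, hfpf, hcommL, hcent, v, hv⟩
  have hLnil : Group.IsNilpotent L := by
    letI : CommGroup L := { (inferInstance : Group L) with mul_comm := fun a b => IsCyclic.commutative.is_comm.comm a b }
    infer_instance
  have hLle : L ≤ Cfsg.fittingSubgroup D := le_sSup ⟨hLn, hLnil⟩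
  refine le_antisymm hLle (sSup_le ?_)
  rintro N ⟨hN, hNn⟩ g hgN
  rcases hkey with h | ⟨p, hp, hrp, h, hh, ho, hc⟩
  · rw [hr1L h]; trivial
  haveI := Fact.mk hp
  -- the part of `g` of order prime to `p`
  have hcomm : g ^ p ^ (orderOf g).factorization p ∈ L := by
    refine hc _ ?_
    set g' := g ^ p ^ (orderOf g).factorization p
    have hg' : (orderOf g').Coprime p := by
      rw [orderOf_pow, Nat.gcd_eq_right (Nat.ordProj_dvd _ _)]
      exact (Nat.coprime_ordCompl Fact.out (orderOf_pos g).ne').symm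
    haveI : Group.IsNilpotent (Cfsg.fittingSubgroup D) := Cfsg.Agent.Lib.Cores.fittingSubgroup_isNilpotent D
    exact congrArg Subtype.val (Cfsg.Agent.S1459.commute_of_coprime_orderOf (N := Cfsg.fittingSubgroup D)
      ⟨g', pow_mem ((le_sSup (⟨hN, hNn⟩ : N.Normal ∧ Group.IsNilpotent N) : N ≤ Cfsg.fittingSubgroup D) hgN) _⟩
      ⟨h, hLle hh⟩
      (by rw [← Subgroup.orderOf_coe, ← Subgroup.orderOf_coe]; show (orderOf g').Coprime (orderOf h)
          rw [ho]; exact hg'))
  -- hence the image of `g` has `p`-power order, so is trivial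
  rw [hL, MonoidHom.mem_ker]
  rw [hL, MonoidHom.mem_ker, map_pow] at hcomm
  have h5 : orderOf (Sig g) ∣ p ^ (orderOf g).factorization p := orderOf_dvd_of_pow_eq_one hcomm
  obtain ⟨i, -, hi⟩ := (Nat.dvd_prime_pow hp).1 h5
  rcases i with _ | i
  · exact orderOf_eq_one_iff.1 (by rw [hi, pow_zero])
  exfalso
  have h6 : p ∣ Nat.card Gal(F/ZMod 2) :=
    ((dvd_pow_self p (by omega : i + 1 ≠ 0)).trans hi.symm.dvd).trans (orderOf_dvd_natCard _)
  rw [IsGalois.card_aut_eq_finrank, hrF] at h6
  have := Nat.le_of_dvd hr0 h6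
  omega

end Cfsg.Agent.Lib.OddLinear
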