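import Cfsg.Agent.Lib.OddLinear.Lift
import Cfsg.Agent.Lib.OddLinear.Normal
import Cfsg.Agent.S2904
import Cfsg.Agent.Lib.Frobenius.FourOrbits
import Mathlib.RingTheory.LittleWedderburn
import Mathlib.RingTheory.IntegralDomain

/-!
# Transitive linear groups of odd order over the field with two elements are solvable
-/

set_option autoImplicit false
set_option linter.unusedSectionVars false
set_option linter.style.haveILetI false

namespace Cfsg.Agent.Lib.OddLinear

open Cfsg Cfsg.Agent.Lib.Characters Matrix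

universe u

theorem isSolvable_of_commutative {N : Type*} [Group N] (h : ∀ a b : N, a * b = b * a) :
    Group.IsSolvable N := by
  letI : CommGroup N := { ‹Group N› with mul_comm := h }
  infer_instance

/-- If the centralizer of a normal cyclic subgroup is abelian then the group is solvable. -/
theorem isSolvable_of_normal_cyclic {G : Type u} [Group G] [Finite G] (P : Subgroup G) [hP : P.Normal]
    [IsCyclic P] (hc : ∀ a ∈ Subgroup.centralizer (P : Set G), ∀ b ∈ Subgroup.centralizer (P : Set G),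
      a * b = b * a) : Group.IsSolvable G := by
  let f : G →* MulAut P := MulAut.conjNormal
  have hker : ∀ a : f.ker, (a : G) ∈ Subgroup.centralizer (P : Set G) := by
    intro a
    rw [Subgroup.mem_centralizer_iff]
    intro y hy
    have h1 := DFunLike.congr_fun (MonoidHom.mem_ker.1 a.2) (⟨y, hy⟩ : P)
    have h2 : (a : G) * y * (a : G)⁻¹ = y := by
      rw [← MulAut.conjNormal_apply (H := P) (a : G) ⟨y, hy⟩]
      exact congrArg Subtype.val h1
    rw [mul_inv_eq_iff_eq_mul] at h2
    exact h2.symm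
  haveI h1 : Group.IsSolvable f.ker := isSolvable_of_commutative fun a b =>
    Subtype.ext (hc _ (hker a) _ (hker b))
  haveI h2 : Group.IsSolvable f.range := isSolvable_of_commutative fun a b => Subtype.ext (by
    refine MulEquiv.ext fun z => ?_
    obtain ⟨m, hm⟩ := MonoidHom.map_cyclic (a : MulAut P).toMonoidHom
    obtain ⟨k, hk⟩ := MonoidHom.map_cyclic (b : MulAut P).toMonoidHom
    have hm' : ∀ z : P, (a : MulAut P) z = z ^ m := hm
    have hk' : ∀ z : P, (b : MulAut P) z = z ^ k := hk
    show (a : MulAut P) ((b : MulAut P) z) = (b : MulAut P) ((a : MulAut P) z)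
    rw [hm', hk', hk', hm', ← _root_.zpow_mul, ← _root_.zpow_mul, mul_comm])
  exact solvable_of_ker_le_range (G' := f.ker) (G'' := f.range) f.ker.subtype f.rangeRestrict
    (by simp)

section

variable {G : Type u} [Group G] [Fintype G] {r : ℕ} (ρ : G →* Matrix (Fin r) (Fin r) (ZMod 2))

/-- The vectors fixed by an element. -/
def fixedSpace (g : G) : Submodule (ZMod 2) (Fin r → ZMod 2) :=
  LinearMap.ker (Matrix.toLin' (ρ g - 1))

theorem mem_fixedSpace {g : G} {v : Fin r → ZMod 2} : v ∈ fixedSpace ρ g ↔ ρ g *ᵥ v = v := by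
  rw [fixedSpace, LinearMap.mem_ker, Matrix.toLin'_apply, Matrix.sub_mulVec, Matrix.one_mulVec,
    sub_eq_zero]

/-- Counting fixed vectors of an element of prime order in an invariant subspace. -/
theorem card_fixed_modEq {p : ℕ} [hp : Fact p.Prime] {x : G} (hx : orderOf x = p)
    (W : Submodule (ZMod 2) (Fin r → ZMod 2)) (hW : ∀ v ∈ W, ρ x *ᵥ v ∈ W) :
    2 ^ Module.finrank (ZMod 2) W ≡
      2 ^ Module.finrank (ZMod 2) (W ⊓ fixedSpace ρ x : Submodule (ZMod 2) (Fin r → ZMod 2)) [MOD p] := by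
  classical
  have hpow : ∀ (i : ℕ), ∀ v ∈ W, ρ (x ^ i) *ᵥ v ∈ W := by
    intro i
    induction i with
    | zero => intro v hv; rwa [pow_zero, map_one, Matrix.one_mulVec]
    | succ i ih =>
      intro v hv
      rw [pow_succ', map_mul, ← Matrix.mulVec_mulVec]
      exact hW _ (ih v hv)
  have hmem : ∀ g : Subgroup.zpowers x, ∀ v ∈ W, ρ (g : G) *ᵥ v ∈ W := by
    rintro ⟨g, hg⟩ v hv
    obtain ⟨i, hi⟩ := (mem_zpowers_iff_mem_range_orderOf (x := x)).1 hg |> Finset.mem_image.1
    show ρ g *ᵥ v ∈ W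
    rw [← hi.2]
    exact hpow i v hv
  letI : MulAction (Subgroup.zpowers x) W :=
    { smul := fun g v => ⟨ρ (g : G) *ᵥ v.1, hmem g v.1 v.2⟩
      one_smul := fun v => Subtype.ext (by
        show ρ ((1 : Subgroup.zpowers x) : G) *ᵥ v.1 = v.1
        rw [OneMemClass.coe_one, map_one, Matrix.one_mulVec])
      mul_smul := fun g h v => Subtype.ext (by
        show ρ ((g * h : Subgroup.zpowers x) : G) *ᵥ v.1 = ρ (g : G) *ᵥ (ρ (h : G) *ᵥ v.1)
        rw [Subgroup.coe_mul, map_mul, Matrix.mulVec_mulVec]) }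
  have hpg : IsPGroup p (Subgroup.zpowers x) := IsPGroup.of_card (n := 1) (by rw [Nat.card_zpowers, hx, pow_one])
  have h := hpg.card_modEq_card_fixedPoints (α := W)
  let e : MulAction.fixedPoints (Subgroup.zpowers x) W ≃
      (W ⊓ fixedSpace ρ x : Submodule (ZMod 2) (Fin r → ZMod 2)) :=
    { toFun := fun v => ⟨v.1.1, v.1.2, (mem_fixedSpace ρ).2
        (congrArg Subtype.val (v.2 ⟨x, Subgroup.mem_zpowers x⟩))⟩
      invFun := fun v => ⟨⟨v.1, v.2.1⟩, fun g => Subtype.ext (by
        show ρ (g : G) *ᵥ v.1 = v.1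
        obtain ⟨i, -, hi⟩ := Finset.mem_image.1 ((mem_zpowers_iff_mem_range_orderOf (x := x)).1 g.2)
        rw [← hi]
        clear hi
        induction i with
        | zero => rw [pow_zero, map_one, Matrix.one_mulVec]
        | succ i ih => rw [pow_succ, map_mul, ← Matrix.mulVec_mulVec, (mem_fixedSpace ρ).1 v.2.2, ih])⟩
      left_inv := fun v => rfl
      right_inv := fun v => rfl }
  rwa [Nat.card_congr e, Module.natCard_eq_pow_finrank (K := ZMod 2) (V := W),
    Module.natCard_eq_pow_finrank (K := ZMod 2)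
      (V := (W ⊓ fixedSpace ρ x : Submodule (ZMod 2) (Fin r → ZMod 2))), Nat.card_zmod] at h

variable {ρ}

/-- An element whose order is a primitive prime divisor fixes only zero and acts irreducibly. -/
theorem irreducible_of_ppd (hρ : Function.Injective ρ) {p : ℕ} [hp : Fact p.Prime]
    (h2 : ∀ k : ℕ, 0 < k → k < r → ¬ p ∣ 2 ^ k - 1) {x : G} (hx : orderOf x = p) (hr : 0 < r)
    (h2p : Nat.Coprime p 2) (W : Submodule (ZMod 2) (Fin r → ZMod 2)) (hW : ∀ v ∈ W, ρ x *ᵥ v ∈ W) (h0 : W ≠ ⊥) : W = ⊤ := by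
  have hdim : Module.finrank (ZMod 2) (Fin r → ZMod 2) = r := Module.finrank_fin_fun _
  have key : ∀ U : Submodule (ZMod 2) (Fin r → ZMod 2), (∀ v ∈ U, ρ x *ᵥ v ∈ U) →
      U ⊓ fixedSpace ρ x = U ∨ (U ⊓ fixedSpace ρ x = ⊥ ∧ U = ⊤) := by
    intro U hU
    have hmod := card_fixed_modEq ρ hx U hU
    set F := U ⊓ fixedSpace ρ x with hF
    have hle : Module.finrank (ZMod 2) F ≤ Module.finrank (ZMod 2) U :=
      Submodule.finrank_mono inf_le_left
    have hler : Module.finrank (ZMod 2) U ≤ r := (Submodule.finrank_le U).trans_eq hdim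
    have hd : p ∣ 2 ^ (Module.finrank (ZMod 2) U - Module.finrank (ZMod 2) F) - 1 := by
      have h1 := (Nat.modEq_iff_dvd' (Nat.pow_le_pow_right (by omega) hle)).1 hmod.symm
      have e : 2 ^ Module.finrank (ZMod 2) U - 2 ^ Module.finrank (ZMod 2) F =
          2 ^ Module.finrank (ZMod 2) F * (2 ^ (Module.finrank (ZMod 2) U - Module.finrank (ZMod 2) F) - 1) := by
        rw [Nat.mul_sub, mul_one, ← pow_add, Nat.add_sub_cancel' hle]
      rw [e] at h1
      exact (h2p.pow_right _).dvd_of_dvd_mul_left h1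
    rcases Nat.eq_zero_or_pos (Module.finrank (ZMod 2) U - Module.finrank (ZMod 2) F) with h | h
    · exact Or.inl (Submodule.eq_of_le_of_finrank_le inf_le_left (by omega))
    · have hge : r ≤ Module.finrank (ZMod 2) U - Module.finrank (ZMod 2) F := by
        by_contra hlt
        exact h2 _ h (by omega) hd
      exact Or.inr ⟨Submodule.finrank_eq_zero.1 (by omega), Submodule.eq_top_of_finrank_eq (by omega)⟩
  have hfix : fixedSpace ρ x = ⊥ := by
    rcases key ⊤ (fun v _ => Submodule.mem_top) with h | ⟨h, -⟩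
    · exfalso
      have h1 : ρ x = 1 := by
        refine Matrix.ext_of_mulVec_single fun j => ?_
        rw [Matrix.one_mulVec]
        exact (mem_fixedSpace ρ).1 ((inf_eq_left.1 h) Submodule.mem_top)
      have h3 : x = 1 := hρ (h1.trans (map_one ρ).symm)
      rw [h3, orderOf_one] at hx
      exact hp.out.one_lt.ne hx
    · rwa [top_inf_eq] at h
  rcases key W hW with h | ⟨-, h⟩
  · rw [hfix, inf_bot_eq] at h
    exact absurd h.symm h0
  · exact h

/-- The matrices commuting with such an element form a commutative domain. -/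
theorem comm_centralizer (hρ : Function.Injective ρ) {p : ℕ} [hp : Fact p.Prime]
    (h2 : ∀ k : ℕ, 0 < k → k < r → ¬ p ∣ 2 ^ k - 1) {x : G} (hx : orderOf x = p) (hr : 0 < r) (h2p : Nat.Coprime p 2) :
    (∀ a b : G, a * x = x * a → b * x = x * b → a * b = b * a) ∧
    ∀ H : Subgroup G, (∀ h ∈ H, h * x = x * h) → IsCyclic H := by
  classical
  let R : Subring (Matrix (Fin r) (Fin r) (ZMod 2)) := Subring.centralizer {ρ x}
  haveI : Nonempty (Fin r) := ⟨⟨0, hr⟩⟩
  haveI : Nontrivial R := inferInstance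
  haveI : NoZeroDivisors R := by
    refine ⟨fun {A B} hAB => or_iff_not_imp_left.2 fun hA => ?_⟩
    have hker : LinearMap.ker (Matrix.toLin' (A : Matrix (Fin r) (Fin r) (ZMod 2))) = ⊥ := by
      by_contra hne
      refine hA ?_
      have htop := irreducible_of_ppd hρ h2 hx hr h2p _ (fun v hv => ?_) hne
      · apply Subtype.ext
        refine Matrix.ext_of_mulVec_single fun j => ?_
        have h1 : Pi.single j 1 ∈ LinearMap.ker (Matrix.toLin' (A : Matrix (Fin r) (Fin r) (ZMod 2))) := by
          rw [htop]; exact Submodule.mem_top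
        rw [LinearMap.mem_ker, Matrix.toLin'_apply] at h1
        rw [ZeroMemClass.coe_zero, Matrix.zero_mulVec]
        exact h1
      · rw [LinearMap.mem_ker, Matrix.toLin'_apply] at hv ⊢
        rw [Matrix.mulVec_mulVec, ← Subring.mem_centralizer_iff.1 A.2 _ rfl, ← Matrix.mulVec_mulVec, hv,
          Matrix.mulVec_zero]
    apply Subtype.ext
    refine Matrix.ext_of_mulVec_single fun j => ?_
    rw [ZeroMemClass.coe_zero, Matrix.zero_mulVec]
    have h1 : (B : Matrix (Fin r) (Fin r) (ZMod 2)) *ᵥ Pi.single j 1 ∈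
        LinearMap.ker (Matrix.toLin' (A : Matrix (Fin r) (Fin r) (ZMod 2))) := by
      rw [LinearMap.mem_ker, Matrix.toLin'_apply, Matrix.mulVec_mulVec, ← Subring.coe_mul, hAB,
        ZeroMemClass.coe_zero, Matrix.zero_mulVec]
    rw [hker] at h1
    exact (Submodule.mem_bot _).1 h1
  haveI : IsDomain R := NoZeroDivisors.to_isDomain R
  have hcomm : ∀ A B : R, A * B = B * A := (Finite.isDomain_to_isField R).mul_comm
  have hmem : ∀ a : G, a * x = x * a → ρ a ∈ R := by
    intro a ha
    rw [Subring.mem_centralizer_iff]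
    rintro _ rfl
    rw [← map_mul, ← map_mul, ha]
  refine ⟨fun a b ha hb => hρ ?_, fun H hH => ?_⟩
  · rw [map_mul, map_mul]
    exact congrArg Subtype.val (hcomm ⟨_, hmem a ha⟩ ⟨_, hmem b hb⟩)
  · letI : CommRing R := { (inferInstance : Ring R) with mul_comm := hcomm }
    let f : H →* R :=
      { toFun := fun h => ⟨ρ h, hmem h (hH h h.2)⟩
        map_one' := Subtype.ext (map_one ρ)
        map_mul' := fun a b => Subtype.ext (map_mul ρ _ _) }
    exact isCyclic_of_subgroup_isDomain f fun a b hab =>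
      Subtype.ext (hρ (congrArg Subtype.val hab))

end


/-- A prime divisor of `2 ^ r - 1` that is primitive divides `2 ^ k - 1` only for multiples of `r`. -/
theorem dvd_two_pow_sub_one_iff {p r : ℕ} (hd : p ∣ 2 ^ r - 1)
    (h2 : ∀ k : ℕ, 0 < k → k < r → ¬ p ∣ 2 ^ k - 1) (hr : 0 < r) (k : ℕ) :
    p ∣ 2 ^ k - 1 ↔ r ∣ k := by
  constructor
  · intro hk
    have hm : p ∣ 2 ^ (Nat.gcd r k) - 1 := by
      rw [← Nat.pow_sub_one_gcd_pow_sub_one]
      exact Nat.dvd_gcd hd hk
    rcases Nat.lt_or_ge (Nat.gcd r k) r with h | h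
    · exact absurd hm (h2 _ (Nat.gcd_pos_of_pos_left _ hr) h)
    · have : Nat.gcd r k = r := le_antisymm (Nat.gcd_le_left _ hr) h
      exact this ▸ Nat.gcd_dvd_right r k
  · exact fun hk => hd.trans (Nat.pow_sub_one_dvd_pow_sub_one 2 hk)

/-- An odd degree character fixed by squaring, of degree less than `p - 1`, kills `p`-elements
when two is primitive modulo `p`. -/
theorem kills_of_sq_fixed {G : Type u} [Group G] [Fintype G] (hodd : Odd (Nat.card G)) {p r : ℕ}
    (hp : p.Prime) (hd : p ∣ 2 ^ r - 1) (h2 : ∀ k : ℕ, 0 < k → k < r → ¬ p ∣ 2 ^ k - 1)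
    (ψ : IrrCharacter G) (hdeg : charDegree (ψ : G → ℂ) < r)
    (hfix : ∀ g : G, (ψ : G → ℂ) (g ^ 2) = (ψ : G → ℂ) g) (x : G) (hx : ∃ k : ℕ, x ^ p ^ k = 1) :
    (ψ : G → ℂ) x = (ψ : G → ℂ) 1 := by
  classical
  haveI : Fact p.Prime := ⟨hp⟩
  set H := Subgroup.zpowers x with hH
  haveI := Fintype.ofFinite H
  haveI := Fintype.ofFinite (IrrCharacter H)
  have hHodd : Odd (Nat.card H) := hodd.of_dvd_nat (Subgroup.card_subgroup_dvd_card H)
  have hcop : Nat.Coprime 2 (Nat.card H) :=
    Nat.prime_two.coprime_iff_not_dvd.2 hHodd.not_two_dvd_nat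
  have hres : IsCharacter H (fun h : H => (ψ : G → ℂ) h) := IsCharacter.restrict (irr_isCharacter ψ) H
  obtain ⟨m, hm, hm'⟩ := IsCharacter.exists_nat_decomp hres
  have hlin : ∀ l : IrrCharacter H, (l : H → ℂ) 1 = 1 := fun l =>
    (comm_iff_forall_irr_one.1 fun a b => by
      obtain ⟨i, hi⟩ := Subgroup.mem_zpowers_iff.1 a.2
      obtain ⟨j, hj⟩ := Subgroup.mem_zpowers_iff.1 b.2
      apply Subtype.ext
      rw [Subgroup.coe_mul, Subgroup.coe_mul, ← hi, ← hj, ← _root_.zpow_add, ← _root_.zpow_add, add_comm]) l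
  let sq : IrrCharacter H → IrrCharacter H := fun l =>
    ⟨fun h => (l : H → ℂ) (h ^ 2), Cfsg.Agent.Lib.InvChar.isIrr_comp_pow l.2 hcop⟩
  have hmsq : ∀ l, m (sq l) = m l := by
    intro l
    have h1 : (m (sq l) : ℂ) = (m l : ℂ) := by
      rw [← hm', ← hm']
      simp only [classInner]
      congr 1
      refine Fintype.sum_equiv (powCoprime hcop.symm) _ _ fun h => ?_
      show (ψ : G → ℂ) h * _ = (ψ : G → ℂ) ((h ^ 2 : H) : G) * _
      rw [SubgroupClass.coe_pow, hfix]
      rfl
    exact_mod_cast h1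
  have hsum : ∑ l, m l = charDegree (ψ : G → ℂ) := by
    refine Nat.cast_injective (R := ℂ) ?_
    have h := congrFun hm 1
    rw [OneMemClass.coe_one, Finset.sum_apply] at h
    rw [Cfsg.Agent.Lib.Blocks.charDegree_eq, h, Nat.cast_sum]
    exact Finset.sum_congr rfl fun l _ => by rw [Pi.smul_apply, hlin, smul_eq_mul, mul_one]
  have hker : ∀ l : IrrCharacter H, m l ≠ 0 → (l : H → ℂ) ⟨x, Subgroup.mem_zpowers x⟩ = 1 := by
    intro l hl
    set z : H := ⟨x, Subgroup.mem_zpowers x⟩
    obtain ⟨f, hf⟩ := IsCharacter.exists_hom_of_apply_one (irr_isCharacter l) (hlin l)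
    by_contra hne
    have hpow : ∀ i, ∀ h, ((sq^[i]) l : H → ℂ) h = (l : H → ℂ) (h ^ 2 ^ i) := by
      intro i
      induction i with
      | zero => intro h; rw [Function.iterate_zero_apply, pow_zero, pow_one]
      | succ i ih =>
        intro h
        rw [Function.iterate_succ_apply']
        show ((sq^[i]) l : H → ℂ) (h ^ 2) = _
        rw [ih, ← pow_mul, ← pow_succ']
    have hml : ∀ i, m ((sq^[i]) l) = m l := by
      intro i
      induction i with
      | zero => rfl
      | succ i ih => rw [Function.iterate_succ_apply', hmsq, ih]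
    have hfz : f z ≠ 1 := fun h1 => hne (by
      rw [hf]
      show ((f z : ℂˣ) : ℂ) = 1
      rw [h1, Units.val_one])
    have hzp : ∃ k, (f z) ^ p ^ k = 1 := by
      obtain ⟨k, hk⟩ := hx
      exact ⟨k, by rw [← map_pow, show z ^ p ^ k = 1 from Subtype.ext hk, map_one]⟩
    have hp_ord : p ∣ orderOf (f z) := by
      obtain ⟨k, hk⟩ := hzp
      obtain ⟨j, -, hj⟩ := (Nat.dvd_prime_pow hp).1 (orderOf_dvd_of_pow_eq_one hk)
      rcases j with _ | j
      · exact absurd (orderOf_eq_one_iff.1 (by rw [hj, pow_zero])) hfz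
      · rw [hj]; exact dvd_pow_self p (by omega)
    have hinj : Set.InjOn (fun i => (sq^[i]) l) (Finset.range r : Set ℕ) := by
      have key : ∀ i j : ℕ, i < j → j < r → (sq^[i]) l ≠ (sq^[j]) l := by
        intro i j hij hjr he
        have h1 := congrArg (fun t : IrrCharacter H => (t : H → ℂ) z) he
        simp only [hpow, hf, map_pow, Units.val_inj] at h1
        have h3 := (Nat.modEq_iff_dvd' (Nat.pow_le_pow_right (by omega) hij.le)).1 (pow_eq_pow_iff_modEq.1 h1)
        have h4 : p ∣ 2 ^ i * (2 ^ (j - i) - 1) := by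
          rw [Nat.mul_sub, mul_one, ← pow_add, Nat.add_sub_cancel' hij.le]
          exact hp_ord.trans h3
        rcases (Nat.Prime.dvd_mul hp).1 h4 with h5 | h5
        · have h6 := (Nat.prime_dvd_prime_iff_eq hp Nat.prime_two).1 (hp.dvd_of_dvd_pow h5)
          have h7 : p ∣ orderOf (f z) := hp_ord
          rw [h6] at h7
          exact hHodd.not_two_dvd_nat (h7.trans ((orderOf_map_dvd f z).trans (orderOf_dvd_natCard z)))
        · exact h2 _ (by omega) (by omega) h5
      intro i hi j hj he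
      rcases lt_trichotomy i j with h | h | h
      · exact absurd he (key i j h (Finset.mem_range.1 hj))
      · exact h
      · exact absurd he.symm (key j i h (Finset.mem_range.1 hi))
    have h1 := Finset.sum_le_sum_of_subset (f := m) (Finset.subset_univ ((Finset.range r).image fun i => (sq^[i]) l))
    rw [Finset.sum_image hinj, Finset.sum_congr rfl fun i _ => hml i, Finset.sum_const, Finset.card_range,
      smul_eq_mul, hsum] at h1
    have := Nat.le_mul_of_pos_right r (Nat.pos_of_ne_zero hl)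
    omega
  have h := congrFun hm ⟨x, Subgroup.mem_zpowers x⟩
  have h' := congrFun hm 1
  rw [OneMemClass.coe_one, Finset.sum_apply] at h'
  rw [Finset.sum_apply] at h
  rw [show (ψ : G → ℂ) x = _ from h, h']
  refine Finset.sum_congr rfl fun l _ => ?_
  rw [Pi.smul_apply, Pi.smul_apply, hlin]
  by_cases hl : m l = 0
  · simp [hl]
  · rw [hker l hl]

section

variable {G : Type u} [Group G] [Fintype G] {r : ℕ} {ρ : G →* Matrix (Fin r) (Fin r) (ZMod 2)}

theorem card_dvd (hρ : Function.Injective ρ) :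
    Nat.card G ∣ ∏ i : Fin r, (2 ^ r - 2 ^ (i : ℕ)) := by
  classical
  haveI : Fact (Nat.Prime 2) := ⟨Nat.prime_two⟩
  let f : G →* GL (Fin r) (ZMod 2) := ρ.toHomUnits
  have hf : Function.Injective f := fun a b hab => hρ (congrArg Units.val hab)
  have h := (Subgroup.card_subgroup_dvd_card f.range)
  rw [← Nat.card_congr (MonoidHom.ofInjective hf).toEquiv, Matrix.card_GL_field, ZMod.card] at h
  exact h

theorem orbit_dvd (hr : 0 < r)
    (htrans : ∀ v w : Fin r → ZMod 2, v ≠ 0 → w ≠ 0 → ∃ g : G, ρ g *ᵥ v = w) :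
    2 ^ r - 1 ∣ Nat.card G := by
  classical
  letI : MulAction G (Fin r → ZMod 2) :=
    { smul := fun g v => ρ g *ᵥ v
      one_smul := fun v => by show ρ 1 *ᵥ v = v; rw [map_one, Matrix.one_mulVec]
      mul_smul := fun g h v => by
        show ρ (g * h) *ᵥ v = ρ g *ᵥ (ρ h *ᵥ v)
        rw [map_mul, Matrix.mulVec_mulVec] }
  let v : Fin r → ZMod 2 := Pi.single ⟨0, hr⟩ 1
  have hv : v ≠ 0 := fun h => by simpa [v] using congrFun h ⟨0, hr⟩
  have horb : MulAction.orbit G v = {w | w ≠ 0} := by
    ext w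
    refine ⟨?_, fun hw => htrans v w hv hw⟩
    rintro ⟨g, rfl⟩ h0
    apply hv
    have h1 : ρ g⁻¹ *ᵥ (ρ g *ᵥ v) = v := by
      rw [Matrix.mulVec_mulVec, ← map_mul, inv_mul_cancel, map_one, Matrix.one_mulVec]
    rw [← h1, show ρ g *ᵥ v = 0 from h0, Matrix.mulVec_zero]
  have h := MulAction.index_stabilizer G v
  rw [horb, show ({w | w ≠ 0} : Set (Fin r → ZMod 2)) = Set.univ \ {0} by ext; simp,
    Set.ncard_sdiff_singleton_of_mem (Set.mem_univ _), Set.ncard_univ, Nat.card_fun, Nat.card_zmod,
    Nat.card_fin] at h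
  exact h ▸ Subgroup.index_dvd_card _

/-- The case of dimension six. -/
theorem isSolvable_six {ρ : G →* Matrix (Fin 6) (Fin 6) (ZMod 2)} (hodd : Odd (Nat.card G))
    (hρ : Function.Injective ρ)
    (htrans : ∀ v w : Fin 6 → ZMod 2, v ≠ 0 → w ≠ 0 → ∃ g : G, ρ g *ᵥ v = w) :
    Group.IsSolvable G := by
  classical
  have hN : Nat.card G ∣ 2 ^ 15 * (3 ^ 4 * 5 * 7 ^ 2 * 31) := by
    have h := card_dvd hρ
    rw [Fin.prod_univ_six] at h
    norm_num at h ⊢
    exact h
  have hN' : Nat.card G ∣ 3 ^ 4 * 5 * 7 ^ 2 * 31 :=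
    ((Nat.prime_two.coprime_iff_not_dvd.2 hodd.not_two_dvd_nat).symm.pow_right 15).dvd_of_dvd_mul_left hN
  have hsq : ∀ p : ℕ, p = 5 ∨ p = 31 → ¬ p ^ 2 ∣ Nat.card G := by
    intro p hp h
    have h1 := h.trans hN'
    rcases hp with rfl | rfl <;> norm_num at h1
  have h31 : ¬ 31 ∣ Nat.card G := by
    intro hd
    haveI : Fact (Nat.Prime 31) := ⟨by norm_num⟩
    obtain ⟨S, hS1, hS2, -⟩ := exists_lift hodd ρ hρ
    obtain ⟨P⟩ : Nonempty (Sylow 31 G) := inferInstance
    have hP := normal_sylow_of_constituents 31 (by norm_num) hodd (S : Set (IrrCharacter G))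
      (fun g hg => hS1 g hg) (fun ψ hψ => Or.inl (by
        have h1 := Finset.single_le_sum (f := fun ψ : IrrCharacter G => charDegree (ψ : G → ℂ))
          (fun _ _ => Nat.zero_le _) hψ
        omega)) P
    obtain ⟨x, hx⟩ := exists_prime_orderOf_dvd_card' 31 hd
    have hxP : Subgroup.zpowers x = (P : Subgroup G) := by
      have hxp : IsPGroup 31 (Subgroup.zpowers x) :=
        IsPGroup.of_card (n := 1) (by rw [Nat.card_zpowers, hx, pow_one])
      haveI := hP
      have h1 := P.is_maximal' (hxp.to_sup_of_normal_right P.2) le_sup_right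
      refine Subgroup.eq_of_le_of_card_ge (h1 ▸ le_sup_left) ?_
      obtain ⟨k, hk⟩ := IsPGroup.iff_card.1 P.2
      rw [Nat.card_zpowers, hx, hk]
      rcases k with _ | _ | k
      · norm_num
      · norm_num
      · exact absurd ((hk ▸ pow_dvd_pow 31 (by omega : 2 ≤ k + 1 + 1)).trans
          (Subgroup.card_subgroup_dvd_card (P : Subgroup G))) (hsq 31 (Or.inr rfl))
    have hmod := card_fixed_modEq ρ hx ⊤ (fun v _ => Submodule.mem_top)
    rw [finrank_top, Module.finrank_fin_fun, top_inf_eq] at hmod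
    have hle : Module.finrank (ZMod 2) (fixedSpace ρ x) ≤ 6 :=
      (Submodule.finrank_le _).trans_eq (Module.finrank_fin_fun _)
    obtain ⟨v, hv, hv0⟩ := Submodule.exists_mem_ne_zero_of_ne_bot
      (p := fixedSpace ρ x) fun hbot => by
        rw [hbot, finrank_bot] at hmod
        exact absurd hmod (by decide)
    have hx1 : ρ x = 1 := by
      refine Matrix.ext_of_mulVec_single fun j => ?_
      rw [Matrix.one_mulVec]
      have hw0 : (Pi.single j 1 : Fin 6 → ZMod 2) ≠ 0 := fun h => by simpa using congrFun h j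
      obtain ⟨g, hg⟩ := htrans v _ hv0 hw0
      have hconj : g⁻¹ * x * g ∈ Subgroup.zpowers x := by
        rw [hxP]
        simpa using hP.conj_mem x (hxP ▸ Subgroup.mem_zpowers x) g⁻¹
      obtain ⟨i, -, hi⟩ := Finset.mem_image.1 ((mem_zpowers_iff_mem_range_orderOf (x := x)).1 hconj)
      have hfixi : ρ (x ^ i) *ᵥ v = v := by
        clear hi
        induction i with
        | zero => rw [pow_zero, map_one, Matrix.one_mulVec]
        | succ i ih => rw [pow_succ, map_mul, ← Matrix.mulVec_mulVec, (mem_fixedSpace ρ).1 hv, ih]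
      rw [← hg, Matrix.mulVec_mulVec, ← map_mul,
        show x * g = g * (g⁻¹ * x * g) by group, ← hi, map_mul, ← Matrix.mulVec_mulVec, hfixi]
    have h3 : x = 1 := hρ (hx1.trans (map_one ρ).symm)
    rw [h3, orderOf_one] at hx
    norm_num at hx
  by_cases h5 : 5 ∣ Nat.card G
  · haveI : Fact (Nat.Prime 5) := ⟨by norm_num⟩
    obtain ⟨P⟩ : Nonempty (Sylow 5 G) := inferInstance
    have hcard : Nat.card (P : Subgroup G) = 5 := by
      obtain ⟨k, hk⟩ := IsPGroup.iff_card.1 P.2
      rcases k with _ | _ | k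
      · exact absurd h5 (by
          intro h
          have h1 := P.not_dvd_index
          rw [pow_zero] at hk
          have h2 := (P : Subgroup G).card_mul_index
          rw [hk, one_mul] at h2
          exact h1 (h2 ▸ h))
      · rw [hk, pow_one]
      · exact absurd ((hk ▸ pow_dvd_pow 5 (by omega : 2 ≤ k + 1 + 1)).trans
          (Subgroup.card_subgroup_dvd_card (P : Subgroup G))) (hsq 5 (Or.inl rfl))
    haveI : IsCyclic (P : Subgroup G) := isCyclic_of_prime_card hcard
    have hNC : Subgroup.normalizer ((P : Subgroup G) : Set G) ≤ Subgroup.centralizer ((P : Subgroup G) : Set G) := by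
      intro n hn
      let f : Subgroup.normalizer ((P : Subgroup G) : Set G) →* MulAut (P : Subgroup G) :=
        Subgroup.normalizerMonoidHom (P : Subgroup G)
      have h1 : orderOf (f ⟨n, hn⟩) ∣ Nat.card G :=
        ((orderOf_map_dvd f _).trans (orderOf_dvd_natCard _)).trans (Subgroup.card_subgroup_dvd_card _)
      have h2 : orderOf (f ⟨n, hn⟩) ∣ 4 := by
        have h := orderOf_dvd_natCard (f ⟨n, hn⟩)
        rw [IsCyclic.card_mulAut, hcard, Nat.totient_prime (by norm_num)] at h
        exact h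
      have h3 : orderOf (f ⟨n, hn⟩) = 1 :=
        Nat.dvd_one.1 (((Nat.prime_two.coprime_iff_not_dvd.2 (hodd.of_dvd_nat h1).not_two_dvd_nat).symm.pow_right 2).dvd_of_dvd_mul_left
          (show orderOf (f ⟨n, hn⟩) ∣ 2 ^ 2 * 1 from h2))
      have h4 : (⟨n, hn⟩ : Subgroup.normalizer ((P : Subgroup G) : Set G)) ∈ f.ker :=
        orderOf_eq_one_iff.1 h3
      rw [Subgroup.normalizerMonoidHom_ker, Subgroup.mem_subgroupOf] at h4
      exact h4
    have hcompl := MonoidHom.ker_transferSylow_isComplement' P hNC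
    set T := MonoidHom.transferSylow P hNC
    haveI : Group.IsSolvable T.ker := by
      refine Cfsg.Agent.Lib.Frobenius.FourOrbits.isSolvable_of_two_primes (a := 3) (b := 7) (by norm_num) (by norm_num)
        fun q hq hqd => ?_
      have h1 : Nat.card T.ker * 5 = Nat.card G := (congrArg (fun m => Nat.card T.ker * m) hcard).symm.trans hcompl.card_mul
      have h2 : q ∣ 3 ^ 4 * 5 * 7 ^ 2 * 31 := (hqd.trans (Dvd.intro _ h1)).trans hN'
      rcases (hq.dvd_mul).1 h2 with h | h
      · rcases (hq.dvd_mul).1 h with h | h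
        · rcases (hq.dvd_mul).1 h with h | h
          · exact Or.inl ((Nat.prime_dvd_prime_iff_eq hq (by norm_num)).1 (hq.dvd_of_dvd_pow h))
          · exfalso
            rw [(Nat.prime_dvd_prime_iff_eq hq (by norm_num)).1 h] at hqd
            exact hsq 5 (Or.inl rfl) (by rw [← h1, pow_two]; exact mul_dvd_mul hqd dvd_rfl)
        · exact Or.inr ((Nat.prime_dvd_prime_iff_eq hq (by norm_num)).1 (hq.dvd_of_dvd_pow h))
      · exfalso
        rw [(Nat.prime_dvd_prime_iff_eq hq (by norm_num)).1 h] at hqd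
        exact h31 (hqd.trans (Subgroup.card_subgroup_dvd_card _))
    haveI : Group.IsSolvable (P : Subgroup G) := isSolvable_of_commutative fun a b => IsCyclic.commutative.is_comm.comm a b
    exact solvable_of_ker_le_range (G' := T.ker) (G'' := (P : Subgroup G)) T.ker.subtype T (by simp)
  · refine Cfsg.Agent.Lib.Frobenius.FourOrbits.isSolvable_of_two_primes (a := 3) (b := 7) (by norm_num) (by norm_num)
      fun q hq hqd => ?_
    rcases (hq.dvd_mul).1 (hqd.trans hN') with h | h
    · rcases (hq.dvd_mul).1 h with h | h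
      · rcases (hq.dvd_mul).1 h with h | h
        · exact Or.inl ((Nat.prime_dvd_prime_iff_eq hq (by norm_num)).1 (hq.dvd_of_dvd_pow h))
        · exact absurd ((Nat.prime_dvd_prime_iff_eq hq (by norm_num)).1 h ▸ hqd) h5
      · exact Or.inr ((Nat.prime_dvd_prime_iff_eq hq (by norm_num)).1 (hq.dvd_of_dvd_pow h))
    · exact absurd ((Nat.prime_dvd_prime_iff_eq hq (by norm_num)).1 h ▸ hqd) h31

/-- The main theorem. -/
theorem isSolvable_of_transitive (hodd : Odd (Nat.card G)) (hρ : Function.Injective ρ)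
    (htrans : ∀ v w : Fin r → ZMod 2, v ≠ 0 → w ≠ 0 → ∃ g : G, ρ g *ᵥ v = w) :
    Group.IsSolvable G := by
  classical
  rcases Nat.lt_or_ge r 3 with hr | hr
  · refine isSolvable_of_commutative ?_
    have h := card_dvd hρ
    have hd : Nat.card G ∣ 3 := by
      interval_cases r
      · exact h.trans (by simp)
      · exact h.trans (by simp)
      · rw [Fin.prod_univ_two] at h
        exact (Nat.prime_two.coprime_iff_not_dvd.2 hodd.not_two_dvd_nat).symm.dvd_of_dvd_mul_left
          (show Nat.card G ∣ 2 * 3 from h.trans (by norm_num))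
    rcases (Nat.dvd_prime Nat.prime_three).1 hd with h1 | h1
    · haveI := (Nat.card_eq_one_iff_unique.1 h1).1
      exact fun a b => Subsingleton.elim _ _
    · haveI : Fact (Nat.Prime 3) := ⟨Nat.prime_three⟩
      haveI := isCyclic_of_prime_card h1
      exact fun a b => IsCyclic.commutative.is_comm.comm a b
  by_cases h6 : r = 6
  · subst h6
    exact isSolvable_six hodd hρ htrans
  obtain ⟨p, hp, hpd, hprim⟩ := Cfsg.Agent.S2904.result 2 r (by norm_num) (by omega) (by omega) (by omega)
  haveI : Fact p.Prime := ⟨hp⟩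
  have hiff := dvd_two_pow_sub_one_iff hpd hprim (by omega)
  have hp2 : p ≠ 2 := by
    rintro rfl
    have h1 : 1 ≤ 2 ^ r := Nat.one_le_two_pow
    obtain ⟨c, hc⟩ := hpd
    have h2 : 2 ∣ 2 ^ r := dvd_pow_self 2 (by omega)
    omega
  have hrp : r ∣ p - 1 := by
    rw [← hiff, ← Nat.modEq_iff_dvd' Nat.one_le_two_pow]
    have h := Nat.ModEq.pow_totient (Nat.coprime_primes Nat.prime_two hp |>.2 hp2.symm)
    rw [Nat.totient_prime hp] at h
    exact h.symm
  have hp5 : 5 ≤ p := by
    have h1 := hp.two_le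
    have h2 := Nat.le_of_dvd (by omega) hrp
    rcases eq_or_ne p 4 with rfl | h4
    · norm_num at hp
    · omega
  obtain ⟨S, hS1, hS2, hS3⟩ := exists_lift hodd ρ hρ
  obtain ⟨P⟩ : Nonempty (Sylow p G) := inferInstance
  have hP := normal_sylow_of_constituents p hp5 hodd (S : Set (IrrCharacter G)) (fun g hg => hS1 g hg)
    (fun ψ hψ => by
      by_cases hsmall : 2 * charDegree (ψ : G → ℂ) + 1 ≤ p
      · exact Or.inl hsmall
      refine Or.inr fun x hx => ?_
      have hle := Finset.single_le_sum (f := fun ψ : IrrCharacter G => charDegree (ψ : G → ℂ))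
        (fun _ _ => Nat.zero_le _) hψ
      have hr1 : r + 1 = p := by
        obtain ⟨c, hc⟩ := hrp
        rcases c with _ | _ | c
        · omega
        · omega
        · have hrc : r * 2 ≤ r * (c + 1 + 1) := Nat.mul_le_mul_left r (by omega)
          omega
      have hfix : ∀ g : G, (ψ : G → ℂ) (g ^ 2) = (ψ : G → ℂ) g := by
        obtain ⟨ψ', hψ'S, hψ'⟩ := hS3 ψ hψ
        by_cases he : ψ' = ψ
        · intro g
          conv_rhs => rw [← he, hψ']
        · exfalso
          have h1 : charDegree (ψ' : G → ℂ) = charDegree (ψ : G → ℂ) := by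
            rw [charDegree, charDegree, hψ', one_pow]
          have h2 := Finset.sum_le_sum_of_subset (f := fun ψ : IrrCharacter G => charDegree (ψ : G → ℂ))
            (show ({ψ, ψ'} : Finset (IrrCharacter G)) ⊆ S by
              intro a ha
              rcases Finset.mem_insert.1 ha with rfl | ha
              · exact hψ
              · rwa [Finset.mem_singleton.1 ha])
          rw [Finset.sum_pair (Ne.symm he), h1] at h2
          omega
      refine kills_of_sq_fixed hodd hp hpd hprim ψ ?_ hfix x hx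
      obtain ⟨c, hc⟩ := hodd.of_dvd_nat (Cfsg.Agent.Lib.Blocks.charDegree_dvd_card ψ)
      obtain ⟨q, hq⟩ := hp.odd_of_ne_two hp2
      omega) P
  haveI := hP
  have hpG : p ∣ Nat.card G := hpd.trans (orbit_dvd (by omega) htrans)
  haveI : Nontrivial (P : Subgroup G) := by
    refine (Subgroup.nontrivial_iff_ne_bot _).2 fun hbot => P.not_dvd_index ?_
    rw [hbot, Subgroup.index_bot]
    exact hpG
  haveI := P.2.center_nontrivial
  obtain ⟨k, hk⟩ := IsPGroup.iff_card.1 (P.2.to_subgroup (Subgroup.center (P : Subgroup G)))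
  have hk0 : k ≠ 0 := by
    rintro rfl
    have := Finite.one_lt_card (α := Subgroup.center (P : Subgroup G))
    rw [pow_zero] at hk
    omega
  obtain ⟨z, hz⟩ := exists_prime_orderOf_dvd_card' (G := Subgroup.center (P : Subgroup G)) p
    (hk ▸ dvd_pow_self p hk0)
  set x : G := ((z : (P : Subgroup G)) : G) with hxdef
  have hx : orderOf x = p := by rw [hxdef, Subgroup.orderOf_coe, Subgroup.orderOf_coe, hz]
  obtain ⟨hab, hcyc⟩ := comm_centralizer hρ hprim hx (by omega)
    ((Nat.coprime_primes hp Nat.prime_two).2 hp2)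
  haveI : IsCyclic (P : Subgroup G) := hcyc _ fun h hh =>
    congrArg Subtype.val (Subgroup.mem_center_iff.1 z.2 ⟨h, hh⟩)
  refine isSolvable_of_normal_cyclic (P : Subgroup G) fun a ha b hb => hab a b ?_ ?_
  · exact (Subgroup.mem_centralizer_iff.1 ha x (z : (P : Subgroup G)).2).symm
  · exact (Subgroup.mem_centralizer_iff.1 hb x (z : (P : Subgroup G)).2).symm

end

end Cfsg.Agent.Lib.OddLinear
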